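import Cfsg.Agent.LargeExtra.NineUnitary.HallB

/-!
# S1763, case I: the `F₄`-structure from the 45 lines (helper949)
-/

set_option autoImplicit false

namespace Cfsg.Agent.LargeExtra.NineUnitary.Hall

open Cfsg.Agent.Co2Type.Quad Cfsg.Agent.LargeExtra.Nine Cfsg.Agent.LargeExtra.Nine.UTree
  Cfsg.Agent.LargeExtra.Nine.UCode Cfsg.Agent.LargeExtra.Nine.UEnum Cfsg.Agent.LargeExtra.Nine.UBridge
open Cfsg.Agent.LargeExtra.Nine.UCoord (om omE UU om_good)
open Cfsg.Agent.LargeExtra.WC (vadd_self eq_of_add)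

variable {G : Type*} [Group G] {Q : Subgroup G} {z : G} {h : Large Q z}

/-! ### checks on codes -/

theorem check_q : ∀ n < 256, qc (apc om n) = qc n := by
  decide +kernel

theorem check_sq : ∀ n < 256, Nat.xor (Nat.xor (apc om (apc om n)) (apc om n)) n = 0 := by
  decide +kernel

theorem check_line : ∀ e ∈ lines T45, e.1 < 256 ∧ e.2 < 256 ∧ (e.2 = apc om e.1 ∨ e.2 = apc om (apc om e.1)) := by
  decide +kernel

theorem check_all' : ((List.range 256).all fun n => (n == 0 || qc n) ||
    (lines T45).any fun e => e == cl n (apc om n)) = true := by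
  decide +kernel

theorem check_all : ∀ n < 256, n ≠ 0 → qc n = false → cl n (apc om n) ∈ lines T45 := by
  intro n hn hn0 hq
  have h1 := List.all_eq_true.1 check_all' n (List.mem_range.2 hn)
  rw [Bool.or_eq_true, Bool.or_eq_true, beq_iff_eq, hq, List.any_eq_true] at h1
  rcases h1 with (h1 | h1) | ⟨e, he, h1⟩
  · exact absurd h1 hn0
  · exact absurd h1 (by decide)
  · rw [← beq_iff_eq.1 h1]; exact he

theorem of_cl {R : Nat → Nat → Prop} (hs : ∀ {u v}, R u v → R v u)
    (ha : ∀ {u v}, R u v → R u (Nat.xor u v)) {u v : Nat} (hu : R (cl u v).1 (cl u v).2) : R u v := by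
  unfold cl at hu
  simp only at hu
  split_ifs at hu
  · exact hu
  · have := ha hu
    rwa [show ((u, Nat.xor u v) : Nat × Nat).1 = u from rfl,
      show ((u, Nat.xor u v) : Nat × Nat).2 = Nat.xor u v from rfl, xor_xor_self_left] at this
  · have := ha (hs hu)
    rwa [show ((Nat.xor u v, u) : Nat × Nat).1 = Nat.xor u v from rfl,
      show ((Nat.xor u v, u) : Nat × Nat).2 = u from rfl, xor_xor_self_left] at this
  · exact hs hu
  · have := ha hu
    rw [show ((v, Nat.xor u v) : Nat × Nat).1 = v from rfl,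
      show ((v, Nat.xor u v) : Nat × Nat).2 = Nat.xor u v from rfl, xor_comm' u v,
      xor_xor_self_left] at this
    exact hs this
  · have := ha (hs hu)
    rw [show ((Nat.xor u v, v) : Nat × Nat).1 = Nat.xor u v from rfl,
      show ((Nat.xor u v, v) : Nat × Nat).2 = v from rfl, xor_comm' u v,
      xor_xor_self_left] at this
    exact hs this

/-! ### `ω` on `V` -/

/-- `ω` on `V` -/
noncomputable def omV (φ : Coord h) : h.V ≃ₗ[ZMod 2] h.V := φ.e.trans (omE.trans φ.e.symm)

theorem omV_sv (φ : Coord h) (n : Nat) : omV φ (sv φ n) = sv φ (apc om n) := by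
  show φ.e.symm (lin om (φ.e (sv φ n))) = φ.e.symm (vec (apc om n))
  rw [e_sv, lin_vec' om_good.1]

theorem omV_q (φ : Coord h) (v : h.V) : h.q (omV φ v) = h.q v := by
  obtain ⟨n, hn, rfl⟩ := exists_sv φ v
  rw [omV_sv, q_sv φ (apc_lt om_good.2 n), q_sv φ hn, check_q n hn]

theorem omV_sq (φ : Coord h) (v : h.V) : omV φ (omV φ v) + omV φ v + v = 0 := by
  obtain ⟨n, hn, rfl⟩ := exists_sv φ v
  rw [omV_sv, omV_sv, ← sv_xor, ← sv_xor, check_sq n hn, sv_zero]

theorem omV_line (φ : Coord h) (hU : ∀ u v, UU φ u v ↔ cl u v ∈ lines T45) {s : G} {u v : h.V}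
    (hs : IsU h s u v) : v = omV φ u ∨ v = omV φ (omV φ u) := by
  obtain ⟨a, ha, rfl⟩ := exists_sv φ u
  obtain ⟨b, hb, rfl⟩ := exists_sv φ v
  have h1 := (hU a b).1 ⟨ha, hb, s, hs⟩
  refine of_cl (R := fun m n => sv φ n = omV φ (sv φ m) ∨ sv φ n = omV φ (omV φ (sv φ m))) ?_ ?_ ?_
  · intro m n hmn
    rcases hmn with h2 | h2
    · right
      rw [h2, om_cube (omV_sq φ)]
    · left
      rw [h2, om_cube (omV_sq φ)]
  · intro m n hmn
    rcases hmn with h2 | h2
    · right
      rw [sv_xor, h2, om_sq (omV_sq φ), add_comm]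
    · left
      rw [sv_xor, h2, om_sq (omV_sq φ)]
      have : sv φ m + (omV φ (sv φ m) + sv φ m) = omV φ (sv φ m) + (sv φ m + sv φ m) := by abel
      rw [this, vadd_self, add_zero]
  · obtain ⟨-, -, h2⟩ := check_line _ h1
    rcases h2 with h2 | h2
    · left
      rw [omV_sv, ← h2]
    · right
      rw [omV_sv, omV_sv, ← h2]

theorem exists_isU (φ : Coord h) (hU : ∀ u v, UU φ u v ↔ cl u v ∈ lines T45) {u : h.V} (hu : u ≠ 0)
    (hq : h.q u = 0) : ∃ s, IsU h s u (omV φ u) := by
  obtain ⟨a, ha, rfl⟩ := exists_sv φ u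
  have ha0 : a ≠ 0 := by
    rintro rfl; exact hu (sv_zero φ)
  obtain ⟨-, -, s, hs⟩ := (hU a (apc om a)).2 (check_all a ha ha0 ((q_sv_zero φ ha).1 hq))
  exact ⟨s, by rw [omV_sv]; exact hs⟩

/-- linear maps are determined on the eight basis vectors -/
theorem ext8 (φ : Coord h) {f g : h.V →ₗ[ZMod 2] h.V}
    (hfg : ∀ i : Fin 8, f (sv φ (2 ^ (i : ℕ))) = g (sv φ (2 ^ (i : ℕ)))) : f = g := by
  have h1 : f ∘ₗ φ.e.symm.toLinearMap = g ∘ₗ φ.e.symm.toLinearMap := by
    apply LinearMap.pi_ext
    intro i x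
    rcases UFrame.two x with rfl | rfl
    · rw [Pi.single_zero, map_zero, map_zero]
    · rw [KillNine.Codes.basis_vec]
      exact hfg i
  ext v
  have h2 := LinearMap.congr_fun h1 (φ.e v)
  have h3 : φ.e.symm.toLinearMap (φ.e v) = v := φ.e.symm_apply_apply v
  rw [LinearMap.comp_apply, LinearMap.comp_apply, h3] at h2
  exact h2

theorem semilinear (φ : Coord h) (hU : ∀ u v, UU φ u v ↔ cl u v ∈ lines T45)
    (c : Subgroup.centralizer ({z} : Set G)) : (∀ v, h.act c (omV φ v) = omV φ (h.act c v)) ∨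
      (∀ v, h.act c (omV φ v) = omV φ (omV φ (h.act c v))) := by
  set T := h.act c with hT
  set ω := omV φ with hω
  have hsq : ∀ v, ω (ω v) + ω v + v = 0 := omV_sq φ
  have h0 : ∀ u, u ≠ 0 → h.q u = 0 → T (ω u) = ω (T u) ∨ T (ω u) = ω (ω (T u)) := by
    intro u hu hq
    obtain ⟨s, hs⟩ := exists_isU φ hU hu hq
    exact omV_line φ hU (hs.conj' c)
  have hTne : ∀ u, u ≠ 0 → T u ≠ 0 := fun u hu h1 => hu ((map_eq_zero_iff _ T.injective).1 h1)
  have link : ∀ u v, u ≠ 0 → v ≠ 0 → u ≠ v → h.q u = 0 → h.q v = 0 → h.b u v = 0 →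
      (T (ω u) = ω (T u) ∧ T (ω v) = ω (T v)) ∨ (T (ω u) = ω (ω (T u)) ∧ T (ω v) = ω (ω (T v))) := by
    intro u v hu hv huv hqu hqv hb
    have huv0 : u + v ≠ 0 := fun h1 => huv (eq_of_add h1)
    have hquv : h.q (u + v) = 0 := by rw [h.q_add', hqu, hqv, hb]; decide
    have hk := om_sq hsq
    rcases h0 u hu hqu with h1 | h1 <;> rcases h0 v hv hqv with h2 | h2
    · exact Or.inl ⟨h1, h2⟩
    · exfalso
      have h3 : T (ω (u + v)) = ω (T u) + ω (ω (T v)) := by rw [map_add, map_add, h1, h2]
      rcases h0 _ huv0 hquv with h4 | h4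
      · rw [h3, map_add, map_add] at h4
        have h5 := add_left_cancel h4
        have h6 := ω.injective h5
        exact om_ne_self hsq (hTne v hv) h6.symm
      · rw [h3, map_add, map_add, map_add] at h4
        have h5 := add_right_cancel h4
        have h6 := ω.injective h5
        exact om_ne_self hsq (hTne u hu) h6
    · exfalso
      have h3 : T (ω (u + v)) = ω (ω (T u)) + ω (T v) := by rw [map_add, map_add, h1, h2]
      rcases h0 _ huv0 hquv with h4 | h4
      · rw [h3, map_add, map_add] at h4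
        have h5 := add_right_cancel h4
        have h6 := ω.injective h5
        exact om_ne_self hsq (hTne u hu) h6.symm
      · rw [h3, map_add, map_add, map_add] at h4
        have h5 := add_left_cancel h4
        have h6 := ω.injective h5
        exact om_ne_self hsq (hTne v hv) h6
    · exact Or.inr ⟨h1, h2⟩
  -- the basis
  have hne : ∀ m < 256, m ≠ 0 → sv φ m ≠ 0 := by
    intro m hm hm0 h1
    rw [← sv_zero φ] at h1
    exact hm0 (sv_inj φ hm (by norm_num) h1)
  have hlk : ∀ m < 256, ∀ n < 256, m ≠ 0 → n ≠ 0 → m ≠ n → qc m = false → qc n = false → bc m n = false →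
      (T (ω (sv φ m)) = ω (T (sv φ m)) ∧ T (ω (sv φ n)) = ω (T (sv φ n))) ∨
      (T (ω (sv φ m)) = ω (ω (T (sv φ m))) ∧ T (ω (sv φ n)) = ω (ω (T (sv φ n)))) := by
    intro m hm n hn hm0 hn0 hmn h1 h2 h3
    exact link _ _ (hne m hm hm0) (hne n hn hn0) (fun h4 => hmn (sv_inj φ hm hn h4))
      ((q_sv_zero φ hm).2 h1) ((q_sv_zero φ hn).2 h2) ((b_sv_zero φ hm hn).2 h3)
  have hlin_ne : ∀ m < 256, m ≠ 0 → T (ω (sv φ m)) = ω (T (sv φ m)) →
      T (ω (sv φ m)) = ω (ω (T (sv φ m))) → False := by
    intro m hm hm0 h1 h2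
    rw [h1] at h2
    exact om_ne_self hsq (hTne _ (hne m hm hm0)) (ω.injective h2)
  have l1 := hlk 1 (by norm_num) 2 (by norm_num) (by norm_num) (by norm_num) (by norm_num) (by decide +kernel)
    (by decide +kernel) (by decide +kernel)
  have l2 := hlk 1 (by norm_num) 4 (by norm_num) (by norm_num) (by norm_num) (by norm_num) (by decide +kernel)
    (by decide +kernel) (by decide +kernel)
  have l3 := hlk 1 (by norm_num) 8 (by norm_num) (by norm_num) (by norm_num) (by norm_num) (by decide +kernel)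
    (by decide +kernel) (by decide +kernel)
  have l5 := hlk 1 (by norm_num) 32 (by norm_num) (by norm_num) (by norm_num) (by norm_num) (by decide +kernel)
    (by decide +kernel) (by decide +kernel)
  have l6 := hlk 1 (by norm_num) 64 (by norm_num) (by norm_num) (by norm_num) (by norm_num) (by decide +kernel)
    (by decide +kernel) (by decide +kernel)
  have l7 := hlk 1 (by norm_num) 128 (by norm_num) (by norm_num) (by norm_num) (by norm_num) (by decide +kernel)
    (by decide +kernel) (by decide +kernel)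
  have l4 := hlk 2 (by norm_num) 16 (by norm_num) (by norm_num) (by norm_num) (by norm_num) (by decide +kernel)
    (by decide +kernel) (by decide +kernel)
  rcases l1 with ⟨a1, a2⟩ | ⟨a1, a2⟩
  · left
    have f := hlin_ne 1 (by norm_num) (by norm_num) a1
    have f2 := hlin_ne 2 (by norm_num) (by norm_num) a2
    have a3 := (l2.resolve_right fun h1 => f h1.1).2
    have a4 := (l3.resolve_right fun h1 => f h1.1).2
    have a6 := (l5.resolve_right fun h1 => f h1.1).2
    have a7 := (l6.resolve_right fun h1 => f h1.1).2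
    have a8 := (l7.resolve_right fun h1 => f h1.1).2
    have a5 := (l4.resolve_right fun h1 => f2 h1.1).2
    have key : T.toLinearMap ∘ₗ ω.toLinearMap = ω.toLinearMap ∘ₗ T.toLinearMap := by
      apply ext8 φ
      intro i
      fin_cases i
      · exact a1
      · exact a2
      · exact a3
      · exact a4
      · exact a5
      · exact a6
      · exact a7
      · exact a8
    exact fun v => LinearMap.congr_fun key v
  · right
    have f := fun h1 => hlin_ne 1 (by norm_num) (by norm_num) h1 a1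
    have f2 := fun h1 => hlin_ne 2 (by norm_num) (by norm_num) h1 a2
    have a3 := (l2.resolve_left fun h1 => f h1.1).2
    have a4 := (l3.resolve_left fun h1 => f h1.1).2
    have a6 := (l5.resolve_left fun h1 => f h1.1).2
    have a7 := (l6.resolve_left fun h1 => f h1.1).2
    have a8 := (l7.resolve_left fun h1 => f h1.1).2
    have a5 := (l4.resolve_left fun h1 => f2 h1.1).2
    have key : T.toLinearMap ∘ₗ ω.toLinearMap = ω.toLinearMap ∘ₗ ω.toLinearMap ∘ₗ T.toLinearMap := by
      apply ext8 φ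
      intro i
      fin_cases i
      · exact a1
      · exact a2
      · exact a3
      · exact a4
      · exact a5
      · exact a6
      · exact a7
      · exact a8
    exact fun v => LinearMap.congr_fun key v

/-- **the `F₄`-structure** from the 45 lines -/
theorem hasOm (φ : Coord h) (hU : ∀ u v, UU φ u v ↔ cl u v ∈ lines T45) : HasOm h :=
  ⟨omV φ, omV_q φ, omV_sq φ, fun _ _ _ hs => omV_line φ hU hs, fun c => semilinear φ hU c⟩

open Cfsg.Agent.LargeExtra.WC (Com)
open Cfsg.Agent.LargeExtra.WCIrr (Line cls QQ base QQ_self)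

/-- **All commuting pairs of conjugates of `z` are lines** in the branch with 45 lines. -/
theorem all_lines [Finite G] (h : Large Q z) (hc : Nat.card h.V = 256)
    (hwc : ∀ g : G, g * z * g⁻¹ ∈ Q → g * z * g⁻¹ = z) (φ : Coord h)
    (hU : ∀ u v, UU φ u v ↔ cl u v ∈ lines T45) {p t : G} (c : Com (cls z) p t) :
    Line (cls z) (QQ Q z) p t := by
  have B := base h hwc
  have hz : z ∈ cls z := ⟨1, by group⟩
  have hO := hasOm φ hU
  have key : ∀ (Q' : Subgroup G) (h' : Large Q' z), Q' = Q → Nat.card h'.V = 256 ∧ HasOm h' := by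
    rintro Q' h' rfl
    exact ⟨hc, hO⟩
  obtain ⟨k1, k2⟩ := key _ (B.large z hz) (QQ_self h)
  exact line_of_com_of_om B hz k1 k2 c

end Cfsg.Agent.LargeExtra.NineUnitary.Hall
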