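import Cfsg.Agent.LargeExtra.NineUnitary.Count
import Cfsg.Agent.LargeExtra.WCEndPSU
import Cfsg.Agent.S1616
import Cfsg.Agent.S0245
import Cfsg.Agent.Lib.Cores

/-!
# S1763, case I, the branch `U4(2)`: `G` is `Sp(2n, 2)` or `PSU(n, 2)`
-/

set_option autoImplicit false

namespace Cfsg.Agent.LargeExtra.NineUnitary

open Cfsg.Agent.Co2Type.Quad Cfsg.Agent.LargeExtra.WCEnd

universe u

section

variable {G : Type u} [Group G] [Finite G] {P : Set G} {Q : G → Subgroup G}

theorem Geo6.conj_eq (hg : Geo6 P Q) {z : G} (hz : z ∈ P) : P = conjugatesOf z := by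
  ext x
  constructor
  · intro hx
    exact isConj_iff.2 (hg.exists_conj z hz x hx)
  · intro hx
    obtain ⟨c, rfl⟩ := isConj_iff.1 (show IsConj z x from hx)
    exact hg.conj_mem z hz c

/-- a commuting pair -/
theorem Geo6.exists_pair (hg : Geo6 P Q) {z : G} (hz : z ∈ P) : ∃ t ∈ P, t ≠ z ∧ Commute t z := by
  have h := hg.card_nbr z hz
  have hne : {s | s ∈ P ∧ s ≠ z ∧ Commute s z}.Nonempty := by
    rw [Set.nonempty_iff_ne_empty]
    intro e
    rw [e, Set.ncard_empty] at h
    omega
  obtain ⟨t, h1, h2, h3⟩ := hne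
  exact ⟨t, h1, h2, h3⟩

/-- the 2-core of the subgroup generated by the neighbours of `z` is not central -/
theorem Geo6.core_not_central (hg : Geo6 P Q) {z : G} (hz : z ∈ P) {n : ℕ} (hcard : Nat.card (Q z) = 2 ^ n) :
    ¬ Cfsg.pCore 2 ↥(Subgroup.closure {y : G | y ∈ P ∧ y ≠ z ∧ Commute z y}) ≤
      Subgroup.center ↥(Subgroup.closure {y : G | y ∈ P ∧ y ≠ z ∧ Commute z y}) := by
  intro hle
  set K := Subgroup.closure {y : G | y ∈ P ∧ y ≠ z ∧ Commute z y} with hK
  have hL := hg.large z hz
  have hKC : ∀ k ∈ K, k * z = z * k := by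
    intro k hk
    have h1 : K ≤ Subgroup.centralizer ({z} : Set G) := by
      rw [hK, Subgroup.closure_le]
      rintro y ⟨-, -, hy⟩
      exact Subgroup.mem_centralizer_singleton_iff.2 hy.symm.eq
    exact Subgroup.mem_centralizer_singleton_iff.1 (h1 hk)
  set N : Subgroup K := (Q z).subgroupOf K with hN
  have hNn : N.Normal := by
    constructor
    intro n hn g
    rw [hN, Subgroup.mem_subgroupOf] at hn ⊢
    exact hL.conj_mem g (hKC g g.2) n hn
  have hNp : IsPGroup 2 N := by
    have h1 : IsPGroup 2 (Q z) := IsPGroup.of_card hcard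
    exact h1.comap_of_injective K.subtype K.subtype_injective
  have hNc : N ≤ Subgroup.center K := (Cfsg.Agent.Lib.Cores.le_pCore hNn hNp).trans hle
  obtain ⟨t, htP, htz, htc⟩ := hg.exists_pair hz
  obtain ⟨r₁, r₂, r₃, h⟩ := hg.isL hz htP htz.symm htc.symm
  have htK : t ∈ K := Subgroup.subset_closure ⟨htP, htz, htc.symm⟩
  have hrK : r₁ ∈ K := Subgroup.subset_closure ⟨h.h1, h.p1.symm, h.cp1⟩
  have hq : (⟨r₁ * t, K.mul_mem hrK htK⟩ : K) ∈ Subgroup.center K := by
    apply hNc
    rw [hN, Subgroup.mem_subgroupOf]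
    exact h.m1
  have hfar := hg.card_far z hz t htP htz htc
  have hne : {s | s ∈ P ∧ Commute s z ∧ ¬ Commute s t}.Nonempty := by
    rw [Set.nonempty_iff_ne_empty]
    intro e
    rw [e, Set.ncard_empty] at hfar
    omega
  obtain ⟨s, hsP, hsz, hst⟩ := hne
  apply hst
  have hsne : s ≠ z := by
    rintro rfl
    exact hst htc.symm
  have hsK : s ∈ K := Subgroup.subset_closure ⟨hsP, hsne, hsz.symm⟩
  have h1 := Subgroup.mem_center_iff.1 hq ⟨s, hsK⟩
  have h2 : Commute s (r₁ * t) := congrArg Subtype.val h1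
  exact (hg.comm_both zStar h.h1 htP h.t1.symm h.ct1.symm hsP h2).2

/-- `G` is one of the groups of S1616. -/
theorem Geo6.sp_or_psu [IsSimpleGroup G] (hG : ¬ IsMulCommutative G) (hg : Geo6 P Q) {z : G} (hz : z ∈ P)
    {m : ℕ} (hcard : Nat.card (Q z) = 2 ^ m) :
    (∃ n : ℕ, Nonempty (G ≃* Matrix.symplecticGroup (Fin n) (ZMod 2))) ∨
      ∃ (F : Type) (_ : Field F) (_ : Fintype F) (n : ℕ), Fintype.card F = 4 ∧ Nonempty (G ≃* Cfsg.PSU n F 2) := by
  classical
  have hns : ¬ ∀ a b : G, a * b = b * a := by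
    intro h
    exact hG ⟨⟨h⟩⟩
  have hnsol : ¬ Group.IsSolvable G := by
    intro h
    exact hns (IsSimpleGroup.comm_iff_isSolvable.2 h)
  obtain ⟨t, htP, htz, htc⟩ := hg.exists_pair hz
  have hex : ∃ p ∈ P, ∃ t ∈ P, p ≠ t ∧ Commute p t := ⟨z, hz, t, htP, htz.symm, htc.symm⟩
  have hcl : Subgroup.closure P = ⊤ := by
    have hn : (Subgroup.closure P).Normal := by
      constructor
      intro n hn g
      induction hn using Subgroup.closure_induction with
      | mem x hx => exact Subgroup.subset_closure (hg.conj_mem x hx g)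
      | one => rw [mul_one, mul_inv_cancel]; exact Subgroup.one_mem _
      | mul x y _ _ hx hy =>
        have e : g * (x * y) * g⁻¹ = (g * x * g⁻¹) * (g * y * g⁻¹) := by group
        rw [e]; exact Subgroup.mul_mem _ hx hy
      | inv x _ hx =>
        have e : g * x⁻¹ * g⁻¹ = (g * x * g⁻¹)⁻¹ := by group
        rw [e]; exact Subgroup.inv_mem _ hx
    rcases hn.eq_bot_or_eq_top with h | h
    · exfalso
      have : z ∈ Subgroup.closure P := Subgroup.subset_closure hz
      rw [h, Subgroup.mem_bot] at this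
      exact hg.ne_one hz this
    · exact h
  have hD : Cfsg.IsThreeTranspositionClass P := by
    refine ⟨⟨?_, ?_⟩, ⟨z, hz, hg.conj_eq hz⟩, hcl⟩
    · intro d hd
      exact orderOf_eq_prime (by rw [pow_two]; exact hg.sq hd) (hg.ne_one hd)
    · intro d hd e he
      by_cases hc : Commute d e
      · left
        rw [hc.mul_pow, pow_two, pow_two, hg.sq hd, hg.sq he, one_mul]
      · right
        exact hg.three zStar hex hd he hc
  have hsol : ∀ N : Subgroup G, N.Normal → Group.IsSolvable ↥N → N = ⊥ := by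
    intro N hN hs
    rcases hN.eq_bot_or_eq_top with h | h
    · exact h
    · exfalso
      subst h
      apply hnsol
      exact Group.isSolvable_of_surjective (f := (Subgroup.topEquiv (G := G)).toMonoidHom)
        (Subgroup.topEquiv (G := G)).surjective
  have hcom : commutator G = ⊤ := by
    rcases (inferInstance : (commutator G).Normal).eq_bot_or_eq_top with h | h
    · exfalso
      apply hns
      intro a b
      have h5 : a * b * a⁻¹ * b⁻¹ ∈ commutator G :=
        Subgroup.commutator_mem_commutator (Subgroup.mem_top a) (Subgroup.mem_top b)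
      rw [h, Subgroup.mem_bot, mul_inv_eq_one, mul_inv_eq_iff_eq_mul] at h5
      exact h5
    · exact h
  have hperf : ⁅commutator G, commutator G⁆ = commutator G := by
    rw [hcom]; exact hcom
  exact Cfsg.Agent.S1616.result hsol hperf hD z hz (hg.core_not_central hz hcard)

end

end Cfsg.Agent.LargeExtra.NineUnitary
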