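import Cfsg.Agent.LargeExtra.Local
import Cfsg.Agent.LargeExtra.Nine.ToCent
import Cfsg.Agent.ClassicalGeometry.SympIso
import Cfsg.Agent.LieClassical.SympCount
import Cfsg.Agent.S0280
import Cfsg.Agent.SporadicStructure.PsuMatch

/-!
# The order argument for `PSU 6 2` (helper360)

A group of order `693 * |C_G(z)|`, `Large Q z`, `|Q| = 2 ^ 9`, which is some `Sp(2n, 2)` or some `PSU(n, 2)`,
is `PSU 6 2`.
-/

set_option autoImplicit false

namespace Cfsg.Agent.LargeExtra.NineUnitary.Order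

open Cfsg Cfsg.Agent.Co2Type.Quad Cfsg.Agent.LargeExtra.Local Cfsg.Agent.LargeExtra.Base

/-! ### Numbers -/

theorem not_sp {n N : ℕ} (hN : N = 2 ^ (n ^ 2) * ∏ i ∈ Finset.range n, (2 ^ (2 * (i + 1)) - 1))
    (h11 : 11 ∣ N) (h31 : ¬ 31 ∣ N) : False := by
  by_cases hn : 5 ≤ n
  · apply h31
    rw [hN]
    refine Dvd.dvd.mul_left ?_ _
    refine dvd_trans ?_ (Finset.dvd_prod_of_mem (fun i => 2 ^ (2 * (i + 1)) - 1)
      (Finset.mem_range.2 (show 4 < n by omega)))
    norm_num
  · have hn' : n ≤ 4 := by omega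
    rw [hN] at h11
    interval_cases n <;> simp [Finset.prod_range_succ] at h11 <;> omega

theorem psu_six {n C : ℕ} (hC : Nat.gcd n (2 + 1) * ((2 + 1) * C) =
      2 ^ (n * (n - 1) / 2) * ∏ i ∈ Finset.range n,
        (if Even i then 2 ^ (i + 1) + 1 else 2 ^ (i + 1) - 1))
    (hn : 2 ≤ n) (h7 : 7 ∣ C) (h43 : ¬ 43 ∣ C) : n = 6 := by
  by_contra hne
  by_cases hn7 : 7 ≤ n
  · apply h43
    have h1 : 43 ∣ Nat.gcd n (2 + 1) * ((2 + 1) * C) := by
      rw [hC]
      refine Dvd.dvd.mul_left ?_ _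
      refine dvd_trans ?_ (Finset.dvd_prod_of_mem
        (fun i => if Even i then 2 ^ (i + 1) + 1 else 2 ^ (i + 1) - 1)
        (Finset.mem_range.2 (show 6 < n by omega)))
      norm_num [Nat.even_iff]
    have hp : Nat.Prime 43 := by norm_num
    rcases hp.dvd_mul.1 h1 with h2 | h2
    · exfalso
      have h3 : 43 ∣ 3 := h2.trans (Nat.gcd_dvd_right n 3)
      revert h3; decide
    · rcases hp.dvd_mul.1 h2 with h3 | h3
      · exfalso; revert h3; decide
      · exact h3
  · have hn' : n ≤ 5 := by omega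
    have h1 : 7 ∣ Nat.gcd n (2 + 1) * ((2 + 1) * C) := (h7.mul_left _).mul_left _
    rw [hC] at h1
    interval_cases n <;> simp [Finset.prod_range_succ, Nat.even_iff] at h1 <;> omega

theorem subsingleton_psu {F : Type*} [Field F] [Fintype F] {n : ℕ} (hn : n < 2) :
    Subsingleton (PSU n F 2) := by
  have hn : n = 0 ∨ n = 1 := by omega
  have hsub : Subsingleton (Matrix.SpecialLinearGroup (Fin n) F) := by
    rcases hn with rfl | rfl
    · infer_instance
    · refine ⟨fun A B => ?_⟩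
      ext i j
      have hA := A.det_coe
      have hB := B.det_coe
      rw [Matrix.det_fin_one] at hA hB
      have hi : i = 0 := Subsingleton.elim _ _
      have hj : j = 0 := Subsingleton.elim _ _
      rw [hi, hj, hA, hB]
  refine ⟨fun a b => ?_⟩
  induction a using QuotientGroup.induction_on with
  | H a =>
  induction b using QuotientGroup.induction_on with
  | H b =>
    have : a = b := Subtype.ext (Subsingleton.elim _ _)
    rw [this]

/-- Among the groups `Sp(2n, 2)` and `PSU(n, 2)` only `PSU(6, 2)` has order divisible by `7 * 11` and by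
neither `31` nor `43`. -/
theorem psu6_of_primes {G : Type*} [Group G]
    (hD : (∃ n : ℕ, Nonempty (G ≃* Matrix.symplecticGroup (Fin n) (ZMod 2))) ∨
      ∃ (F : Type) (_ : Field F) (_ : Fintype F) (n : ℕ), Fintype.card F = 4 ∧
        Nonempty (G ≃* Cfsg.PSU n F 2))
    (h7 : 7 ∣ Nat.card G) (h11 : 11 ∣ Nat.card G) (h31 : ¬ 31 ∣ Nat.card G)
    (h43 : ¬ 43 ∣ Nat.card G) :
    ∃ (F : Type) (_ : Field F) (_ : Fintype F), Fintype.card F = 4 ∧
      Nonempty (G ≃* Cfsg.PSU 6 F 2) := by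
  rcases hD with ⟨n, ⟨e⟩⟩ | ⟨F, hFf, hFt, n, hF, ⟨e⟩⟩
  · exfalso
    have h1 := Nat.card_congr e.toEquiv
    rw [Cfsg.Agent.LieClassical.SympCount.card_symplecticGroup] at h1
    simp only [ZMod.card] at h1
    exact not_sp h1 h11 h31
  · have hF' : Fintype.card F = 2 ^ 2 := hF
    have h1 := Nat.card_congr e.toEquiv
    have hn : 2 ≤ n := by
      by_contra hlt
      have := subsingleton_psu (F := F) (n := n) (by omega)
      have h2 : Nat.card (PSU n F 2) = 1 := Nat.card_unique
      rw [h1, h2] at h7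
      revert h7; decide
    have h2 := Cfsg.Agent.S0280.result hF' n hn
    rw [← h1] at h2
    have h3 : n = 6 := psu_six h2 hn h7 h43
    subst h3
    exact ⟨F, hFf, hFt, hF, ⟨e⟩⟩

theorem card_sp_eight :
    Nat.card (Matrix.symplecticGroup (Fin 4) (ZMod 2)) = 2 ^ 16 * (3 ^ 5 * 5 ^ 2 * 7 * 17) := by
  rw [Cfsg.Agent.LieClassical.SympCount.card_symplecticGroup]
  simp only [ZMod.card, Finset.prod_range_succ, Finset.prod_range_zero]
  norm_num

/-! ### The bound for the centraliser -/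

variable {G : Type*} [Group G] {Q : Subgroup G} {z : G}

theorem finrank_V [Finite Q] (h : Large Q z) (h9 : Nat.card Q = 2 ^ 9) :
    Module.finrank (ZMod 2) h.V = 2 * 4 := by
  have h1 := h.card_eq
  have h2 : Nat.card h.V = 2 ^ 8 := by omega
  have h3 := Module.natCard_eq_pow_finrank (K := ZMod 2) (V := h.V)
  rw [h2, Nat.card_zmod] at h3
  exact (Nat.pow_right_injective (le_refl 2) h3).symm

theorem card_range_dvd [Finite Q] (h : Large Q z) (h9 : Nat.card Q = 2 ^ 9) :
    Nat.card ↥h.act.range ∣ Nat.card (Matrix.symplecticGroup (Fin 4) (ZMod 2)) := by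
  classical
  have hA : h.b.IsAlt := fun v => h.b_self v
  have : FiniteDimensional (ZMod 2) h.V := Module.Finite.of_finite
  obtain ⟨e, he⟩ := Cfsg.Agent.ClassicalGeometry.SympIso.exists_linearEquiv_sympForm h.b hA
    (fun u hu => h.b_nondeg hu) (finrank_V h h9)
  have hmul : ∀ (f : h.V ≃ₗ[ZMod 2] h.V) (x : Fin 4 ⊕ Fin 4 → ZMod 2),
      (LinearMap.toMatrix' (e.symm.toLinearMap ∘ₗ f.toLinearMap ∘ₗ e.toLinearMap)).mulVec x =
        e.symm (f (e x)) := by
    intro f x
    rw [← Matrix.toLin'_apply, Matrix.toLin'_toMatrix']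
    rfl
  let φ : ↥h.act.range →* Matrix.symplecticGroup (Fin 4) (ZMod 2) :=
    { toFun := fun f => ⟨LinearMap.toMatrix' (e.symm.toLinearMap ∘ₗ
        (f : h.V ≃ₗ[ZMod 2] h.V).toLinearMap ∘ₗ e.toLinearMap), by
        rw [Cfsg.Agent.ClassicalGeometry.SympBasic.mem_symplecticGroup_iff]
        intro x y
        rw [hmul, hmul, ← he, LinearEquiv.apply_symm_apply, LinearEquiv.apply_symm_apply, ← he]
        obtain ⟨g, hg⟩ := f.2
        rw [← hg]
        exact h.b_act g _ _⟩
      map_one' := by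
        apply Subtype.ext
        change LinearMap.toMatrix' _ = 1
        rw [← LinearMap.toMatrix'_id]
        congr 1
        ext x
        simp
      map_mul' := by
        intro f g
        apply Subtype.ext
        change LinearMap.toMatrix' _ = LinearMap.toMatrix' _ * LinearMap.toMatrix' _
        rw [← LinearMap.toMatrix'_comp]
        congr 1
        ext x
        simp }
  refine Subgroup.card_dvd_of_injective φ ?_
  intro f g hfg
  apply Subtype.ext
  apply LinearEquiv.ext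
  intro v
  have h1 : LinearMap.toMatrix' (e.symm.toLinearMap ∘ₗ
        (f : h.V ≃ₗ[ZMod 2] h.V).toLinearMap ∘ₗ e.toLinearMap) =
      LinearMap.toMatrix' (e.symm.toLinearMap ∘ₗ
        (g : h.V ≃ₗ[ZMod 2] h.V).toLinearMap ∘ₗ e.toLinearMap) := congrArg Subtype.val hfg
  have h2 := congrArg (fun A => A.mulVec (e.symm v)) h1
  simp only [hmul, LinearEquiv.apply_symm_apply] at h2
  exact e.symm.injective h2

/-- `|C_G(z)| = |Q| * |H|`. -/
theorem card_centralizer_eq [Finite Q] (h : Large Q z) :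
    Nat.card ↥(Subgroup.centralizer ({z} : Set G)) = Nat.card Q * Nat.card ↥h.act.range := by
  have h1 := Subgroup.card_mul_index h.act.ker
  rw [Subgroup.index_ker] at h1
  rw [← h1]
  congr 1
  rw [Nine.ToCent.ker_act h, Nine.ToCent.card_subgroupOf h]

/-- `|C_G(z)|` divides `2 ^ 9 * |Sp₈(2)|`. -/
theorem card_centralizer_dvd [Finite Q] (h : Large Q z) (h9 : Nat.card Q = 2 ^ 9) :
    Nat.card ↥(Subgroup.centralizer ({z} : Set G)) ∣ 2 ^ 9 * (2 ^ 16 * (3 ^ 5 * 5 ^ 2 * 7 * 17)) := by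
  rw [card_centralizer_eq h, h9, ← card_sp_eight]
  exact Nat.mul_dvd_mul_left _ (card_range_dvd h h9)

/-- **Order argument**: `|G| = 693 * |C_G(z)|` and `G` is some `Sp(2n, 2)` or `PSU(n, 2)`. -/
theorem psu6_of_order [Finite G] (h : Large Q z) (h9 : Nat.card Q = 2 ^ 9)
    (hG : Nat.card G = 693 * Nat.card ↥(Subgroup.centralizer ({z} : Set G)))
    (hD : (∃ n : ℕ, Nonempty (G ≃* Matrix.symplecticGroup (Fin n) (ZMod 2))) ∨
      ∃ (F : Type) (_ : Field F) (_ : Fintype F) (n : ℕ), Fintype.card F = 4 ∧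
        Nonempty (G ≃* Cfsg.PSU n F 2)) :
    ∃ (F : Type) (_ : Field F) (_ : Fintype F), Fintype.card F = 4 ∧
      Nonempty (G ≃* Cfsg.PSU 6 F 2) := by
  have hc := card_centralizer_dvd h h9
  have hdvd : Nat.card G ∣ 693 * (2 ^ 9 * (2 ^ 16 * (3 ^ 5 * 5 ^ 2 * 7 * 17))) := by
    rw [hG]
    exact Nat.mul_dvd_mul_left _ hc
  refine psu6_of_primes hD ?_ ?_ (fun h1 => ?_) (fun h1 => ?_)
  · rw [hG]
    exact Dvd.dvd.mul_right (by norm_num) _
  · rw [hG]
    exact Dvd.dvd.mul_right (by norm_num) _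
  · have := h1.trans hdvd
    revert this
    norm_num
  · have := h1.trans hdvd
    revert this
    norm_num

end Cfsg.Agent.LargeExtra.NineUnitary.Order
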