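import Cfsg.Agent.LargeExtra.WG12
import Cfsg.Agent.LargeExtra.NineUnitary.HallC
import Cfsg.Agent.LargeExtra.NineUnitary.Ident
import Cfsg.Agent.LargeExtra.NineUnitary.Order

/-!
# S1763, case I, the branch with 45 lines: `G ≅ PSU₆(2)` (helper949)
-/

set_option autoImplicit false

namespace Cfsg.Agent.LargeExtra.NineUnitary.Final

open Cfsg.Agent.Co2Type.Quad Cfsg.Agent.LargeExtra.Nine Cfsg.Agent.LargeExtra.Nine.UTree
  Cfsg.Agent.LargeExtra.Nine.UCode Cfsg.Agent.LargeExtra.Nine.UEnum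
open Cfsg.Agent.LargeExtra.Nine.UCoord (UU)
open Cfsg.Agent.LargeExtra.WC (Com)
open Cfsg.Agent.LargeExtra.WCIrr

variable {G : Type*} [Group G] {Q : Subgroup G} {z : G}

/-- **Case I, 45 lines**: `G ≅ PSU₆(2)`. -/
theorem isoPSU6 [Finite G] [IsSimpleGroup G] (hG : ¬ IsMulCommutative G) (h : Large Q z)
    (h9 : Nat.card Q = 2 ^ 9)
    (hO : ∀ N : Subgroup (Subgroup.centralizer ({z} : Set G)), N.Normal → IsPGroup 2 N →
      ∀ x ∈ N, (x : G) ∈ Q)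
    (hwc : ∀ g : G, g * z * g⁻¹ ∈ Q → g * z * g⁻¹ = z)
    (hex : ∃ g : G, g * z * g⁻¹ ≠ z ∧ g * z * g⁻¹ * z = z * (g * z * g⁻¹))
    (φ : Coord h) (hU : ∀ u v, UU φ u v ↔ cl u v ∈ lines T45) :
    ∃ (F : Type) (_ : Field F) (_ : Fintype F), Fintype.card F = 4 ∧
      Nonempty (G ≃* Cfsg.PSU 6 F 2) := by
  have B := base h hwc
  have hz : z ∈ cls z := ⟨1, by group⟩
  have hc : Nat.card h.V = 256 := by
    have h1 := h.card_eq
    rw [h9] at h1
    omega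
  have hcQ : ∀ p ∈ cls z, Nat.card (QQ Q z p) = 2 ^ 9 := by
    intro p hp
    rw [B.card_eq hp hz, QQ_self h]
    exact h9
  have A : AllU (cls z) (QQ Q z) :=
    { toBase := B
      all := fun p hp t ht hne hcm => Hall.all_lines h hc hwc φ hU ⟨hp, ht, hne, hcm⟩
      card := hcQ }
  have hex' : ∃ p t, Com (cls z) p t := by
    obtain ⟨g, hg1, hg2⟩ := hex
    exact ⟨z, g * z * g⁻¹, ⟨hz, ⟨g, rfl⟩, Ne.symm hg1, hg2.symm⟩⟩
  have hg : Geo6 (cls z) (QQ Q z) :=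
    A.geo6 (fun p hp N hN hN2 => normal_two h hO p hp N hN hN2) hex'
  exact Order.psu6_of_order h h9 (hg.card_G Cfsg.Agent.LargeExtra.WCEnd.zStar hz) (hg.sp_or_psu hG hz (hcQ z hz))

end Cfsg.Agent.LargeExtra.NineUnitary.Final
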