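import Cfsg.Agent.LargeExtra.NineUnitary.Three
import Mathlib.Combinatorics.Enumerative.DoubleCounting

/-!
# S1763, case I, the branch `U4(2)`: `|P| = 693`
-/

set_option autoImplicit false

namespace Cfsg.Agent.LargeExtra.NineUnitary

open Cfsg.Agent.Co2Type.Quad Cfsg.Agent.LargeExtra.WCEnd

universe u

section

variable {G : Type u} [Group G] [Finite G] {P : Set G} {Q : G → Subgroup G}

/-- Two points of a line through `z`, different from `z`, commuting with `s`: then `s` commutes with `z`. -/
theorem Geo6.comm_of_two (hg : Geo6 P Q) {z v w s : G} (hz : z ∈ P) (hv : v ∈ P) (hw : w ∈ P)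
    (hs : s ∈ P) (hzv : z ≠ v) (hc : Commute z v) (hvw : v ≠ w) (hcw : Commute w z) (hon : w * v ∈ Q z)
    (hsv : Commute s v) (hsw : Commute s w) : Commute s z := by
  obtain ⟨r₁, r₂, r₃, h⟩ := hg.isL hz hv hzv hc
  have key : ∀ a b c, IsL P Q z v a b c → w = a → Commute s z := by
    intro a b c h e
    subst e
    -- `w z ∈ Q v`
    apply hg.comm_of v hv s hs z hz hsv hc
    have hL := hg.large v hv
    have hwv : Commute w v := h.ct1.symm
    have h1 : w * z ∈ Q v := h.s1
    have hz2 : z = w * (w * z) := by rw [← mul_assoc, hg.sq hw, one_mul]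
    -- `s z s z = (s (w z) s) (w z)`
    have h2 : s * (w * z) * s⁻¹ ∈ Q v := hL.conj_mem s hsv.eq _ h1
    have hww := hg.sq hw
    have hzz := hg.sq hz
    have hwz : Commute w z := hcw
    have e : s * z * (s * z) = (s * (w * z) * s⁻¹) * (w * z) := by
      rw [hg.inv hs]
      have h3 : s * (w * z) * s = w * (s * z * s) := by
        calc s * (w * z) * s = (s * w) * z * s := by group
          _ = (w * s) * z * s := by rw [hsw.eq]
          _ = _ := by group
      rw [h3]
      have h4 : s * z * s * w = w * (s * z * s) := by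
        calc s * z * s * w = s * z * (s * w) := by group
          _ = s * z * (w * s) := by rw [hsw.eq]
          _ = s * (z * w) * s := by group
          _ = s * (w * z) * s := by rw [hwz.eq]
          _ = _ := h3
      calc s * z * (s * z) = (w * w) * (s * z * s) * z := by rw [hww]; group
        _ = w * (w * (s * z * s)) * z := by group
        _ = w * (s * z * s * w) * z := by rw [h4]
        _ = _ := by group
    rw [e]
    exact (Q v).mul_mem h2 h1
  rcases h.mem w hw hcw hon with e | e | e | e
  · exact absurd e.symm hvw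
  · exact key _ _ _ h e
  · exact key _ _ _ h.rot e
  · exact key _ _ _ h.rot.rot e

/-- the neighbours of `z` -/
def Nb (P : Set G) (z : G) : Set G := {s | s ∈ P ∧ s ≠ z ∧ Commute s z}

/-- the elements of `P` not commuting with `z` -/
def Fa (P : Set G) (z : G) : Set G := {s | s ∈ P ∧ ¬ Commute s z}

/-- `45` neighbours of `z` commute with `s`. -/
theorem Geo6.card_common (hZ : ZStar.{u}) (hg : Geo6 P Q) {z s : G} (hz : z ∈ P) (hs : s ∈ Fa P z) :
    {v | v ∈ Nb P z ∧ Commute s v}.ncard = 45 := by
  classical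
  have : Fintype G := Fintype.ofFinite G
  set N : Finset G := (Nb P z).toFinset with hN
  set N' : Finset G := {v | v ∈ Nb P z ∧ Commute s v}.toFinset with hN'
  have hcN : N.card = 180 := by
    rw [hN, ← Set.ncard_eq_toFinset_card']
    exact hg.card_nbr z hz
  have hcN' : {v | v ∈ Nb P z ∧ Commute s v}.ncard = N'.card := by
    rw [hN', ← Set.ncard_eq_toFinset_card']
  rw [hcN']
  have hdc := Finset.sum_card_bipartiteAbove_eq_sum_card_bipartiteBelow (s := N) (t := N')
    (fun x v => x * v ∈ Q z)
  have h1 : ∀ x ∈ N, (Finset.bipartiteAbove (fun x v => x * v ∈ Q z) N' x).card = 1 := by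
    intro x hx
    rw [hN, Set.mem_toFinset] at hx
    obtain ⟨hxP, hxz, hxc⟩ := hx
    obtain ⟨y, hyP, hon, hys⟩ := hg.meets hZ hz hxP hxz.symm hxc.symm hs.1
    have hyz : y ≠ z := by
      rintro rfl
      exact hs.2 hys.symm
    have hy2 : Commute y z ∧ y * x ∈ Q z := by
      rcases hon with e | e
      · exact absurd e hyz
      · exact e
    have hL := hg.large z hz
    have hxy : x * y ∈ Q z := by
      have : x * y = (y * x)⁻¹ := by rw [mul_inv_rev, hg.inv hyP, hg.inv hxP]
      rw [this]; exact (Q z).inv_mem hy2.2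
    rw [Finset.card_eq_one]
    refine ⟨y, ?_⟩
    ext v
    rw [Finset.mem_bipartiteAbove, Finset.mem_singleton, hN', Set.mem_toFinset]
    constructor
    · rintro ⟨⟨⟨hvP, hvz, hvc⟩, hsv⟩, hxv⟩
      by_contra hne
      apply hs.2
      refine hg.comm_of_two hz hyP hvP hs.1 hyz.symm hy2.1.symm (fun e => hne e.symm) hvc ?_ hys.symm hsv
      -- `v y = (v x) (x y)`
      have hvx : v * x ∈ Q z := by
        have : v * x = (x * v)⁻¹ := by rw [mul_inv_rev, hg.inv hvP, hg.inv hxP]
        rw [this]; exact (Q z).inv_mem hxv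
      have : v * y = (v * x) * (x * y) := by
        calc v * y = v * (x * x) * y := by rw [hg.sq hxP, mul_one]
          _ = _ := by group
      rw [this]; exact (Q z).mul_mem hvx hxy
    · rintro rfl
      exact ⟨⟨⟨hyP, hyz, hy2.1⟩, hys.symm⟩, hxy⟩
  have h2 : ∀ v ∈ N', (Finset.bipartiteBelow (fun x v => x * v ∈ Q z) N v).card = 4 := by
    intro v hv
    rw [hN', Set.mem_toFinset] at hv
    obtain ⟨⟨hvP, hvz, hvc⟩, -⟩ := hv
    obtain ⟨r₁, r₂, r₃, h⟩ := hg.isL hz hvP hvz.symm hvc.symm
    have e : Finset.bipartiteBelow (fun x v => x * v ∈ Q z) N v = {v, r₁, r₂, r₃} := by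
      ext x
      rw [Finset.mem_bipartiteBelow, hN, Set.mem_toFinset]
      simp only [Finset.mem_insert, Finset.mem_singleton]
      constructor
      · rintro ⟨⟨hxP, hxz, hxc⟩, hxv⟩
        exact h.mem x hxP hxc hxv
      · rintro (rfl | rfl | rfl | rfl)
        · refine ⟨⟨hvP, hvz, hvc⟩, ?_⟩
          rw [hg.sq hvP]; exact (Q z).one_mem
        · exact ⟨⟨h.h1, h.p1.symm, h.cp1.symm⟩, h.m1⟩
        · exact ⟨⟨h.h2, h.p2.symm, h.cp2.symm⟩, h.m2⟩
        · exact ⟨⟨h.h3, h.p3.symm, h.cp3.symm⟩, h.m3⟩
    rw [e]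
    rw [Finset.card_insert_of_notMem, Finset.card_insert_of_notMem, Finset.card_insert_of_notMem,
      Finset.card_singleton]
    · simp [h.n23]
    · simp [h.n12, h.n13]
    · simp [h.t1, h.t2, h.t3]
  rw [Finset.sum_congr rfl h1, Finset.sum_congr rfl h2, Finset.sum_const, Finset.sum_const, hcN] at hdc
  simp only [smul_eq_mul] at hdc
  omega

/-- `|P| = 693` -/
theorem Geo6.card_P (hZ : ZStar.{u}) (hg : Geo6 P Q) {z : G} (hz : z ∈ P) : P.ncard = 693 := by
  classical
  have : Fintype G := Fintype.ofFinite G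
  set N : Finset G := (Nb P z).toFinset with hN
  set A : Finset G := (Fa P z).toFinset with hA
  have hcN : N.card = 180 := by
    rw [hN, ← Set.ncard_eq_toFinset_card']
    exact hg.card_nbr z hz
  have hdc := Finset.sum_card_bipartiteAbove_eq_sum_card_bipartiteBelow (s := N) (t := A)
    (fun v s => Commute s v)
  have h1 : ∀ v ∈ N, (Finset.bipartiteAbove (fun v s => Commute s v) A v).card = 128 := by
    intro v hv
    rw [hN, Set.mem_toFinset] at hv
    obtain ⟨hvP, hvz, hvc⟩ := hv
    rw [← hg.card_far v hvP z hz hvz.symm hvc.symm, Set.ncard_eq_toFinset_card']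
    congr 1
    ext s
    rw [Finset.mem_bipartiteAbove, hA, Set.mem_toFinset, Set.mem_toFinset]
    constructor
    · rintro ⟨⟨h1, h2⟩, h3⟩
      exact ⟨h1, h3, h2⟩
    · rintro ⟨h1, h2, h3⟩
      exact ⟨⟨h1, h3⟩, h2⟩
  have h2 : ∀ s ∈ A, (Finset.bipartiteBelow (fun v s => Commute s v) N s).card = 45 := by
    intro s hs
    rw [hA, Set.mem_toFinset] at hs
    rw [← hg.card_common hZ hz hs, Set.ncard_eq_toFinset_card']
    congr 1
    ext v
    rw [Finset.mem_bipartiteBelow, hN, Set.mem_toFinset, Set.mem_toFinset]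
    rfl
  rw [Finset.sum_congr rfl h1, Finset.sum_congr rfl h2, Finset.sum_const, Finset.sum_const, hcN] at hdc
  simp only [smul_eq_mul] at hdc
  have hAc : A.card = 512 := by omega
  have hP : P.toFinset = insert z (N ∪ A) := by
    ext s
    rw [Set.mem_toFinset, Finset.mem_insert, Finset.mem_union, hN, hA, Set.mem_toFinset, Set.mem_toFinset]
    constructor
    · intro hs
      by_cases h1 : s = z
      · exact Or.inl h1
      · right
        by_cases h2 : Commute s z
        · exact Or.inl ⟨hs, h1, h2⟩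
        · exact Or.inr ⟨hs, h2⟩
    · rintro (rfl | h | h)
      · exact hz
      · exact h.1
      · exact h.1
  rw [Set.ncard_eq_toFinset_card', hP, Finset.card_insert_of_notMem, Finset.card_union_of_disjoint, hcN, hAc]
  · rw [Finset.disjoint_left]
    intro s h1 h2
    rw [hN, Set.mem_toFinset] at h1
    rw [hA, Set.mem_toFinset] at h2
    exact h2.2 h1.2.2
  · rw [Finset.mem_union, hN, hA, Set.mem_toFinset, Set.mem_toFinset]
    rintro (h | h)
    · exact h.2.1 rfl
    · exact h.2 (Commute.refl z)

/-- `|G| = 693 |C(z)|` -/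
theorem Geo6.card_G (hZ : ZStar.{u}) (hg : Geo6 P Q) {z : G} (hz : z ∈ P) :
    Nat.card G = 693 * Nat.card (Subgroup.centralizer ({z} : Set G)) := by
  classical
  have h1 : P = conjugatesOf z := by
    ext x
    constructor
    · intro hx
      exact isConj_iff.2 (hg.exists_conj z hz x hx)
    · intro hx
      obtain ⟨c, rfl⟩ := isConj_iff.1 (show IsConj z x from hx)
      exact hg.conj_mem z hz c
  have h2 := hg.card_P hZ hz
  have h3 : (MulAction.orbit (ConjAct G) z : Set G) = conjugatesOf z := by
    ext x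
    rw [ConjAct.mem_orbit_conjAct]
    exact isConj_comm
  have h4 := MulAction.index_stabilizer (ConjAct G) z
  rw [h3, ← h1, h2] at h4
  have h5 := (MulAction.stabilizer (ConjAct G) z).card_mul_index
  rw [h4] at h5
  have h6 : Nat.card (MulAction.stabilizer (ConjAct G) z) =
      Nat.card (Subgroup.centralizer ({z} : Set G)) := by
    rw [ConjAct.stabilizer_eq_centralizer]
    exact Nat.card_congr (Equiv.refl _)
  rw [h6, Nat.card_congr (ConjAct.ofConjAct (G := G)).toEquiv] at h5
  rw [← h5, mul_comm]

end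

end Cfsg.Agent.LargeExtra.NineUnitary
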