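import Cfsg.Agent.LargeExtra.WG5

/-!
# Large extraspecial 2-subgroups, case I (`z` weakly closed in `Q`): pairs of type F (helper949)

* `shift_q`: helper821's shift for a given element `q`.
* `TypeF.eq_one`: a good pair `(p, t)` of type F has `Q p ∩ Q t = 1`.
* `Disj P Q t`: U-lines of `V_t` which meet are equal; `no_three`: no three U-elements with product `1` on `V_t`.
* `TypeF.false_of_disj`: no pairs `(p, t)` of type F if `Disj P Q t`.
-/

set_option autoImplicit false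

namespace Cfsg.Agent.LargeExtra.NineUnitary.Hall

open Cfsg.Agent.Co2Type.Quad Cfsg.Agent.LargeExtra.WC Cfsg.Agent.LargeExtra.WCIrr

variable {G : Type*} [Group G] {P : Set G} {Q : G → Subgroup G} {p t : G}

/-! ### the shift -/

/-- **The shift** for a given element `q`. -/
theorem shift_q [Finite G] (B : Base P Q) (c : Good P p t)
    (f : TypeF Q p t) {q : G} (hq : q ∈ Q p) (hqD : ∀ d ∈ Q p, d ∈ Q t → q * d = d * q)
    (hqt : t * q ≠ q * t) :
    Good P t (q * t * q⁻¹) ∧ Nat.card ↥(Q p ⊓ Q t) < Nat.card ↥(Q t ⊓ Q (q * t * q⁻¹)) := by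
  classical
  set S := qs (B.large p c.hp) with hS
  have hWW := c.W_eq B f
  -- `[q, x]` for `x ∈ X`
  have hcom : ∀ x ∈ Q t, x * p = p * x → q * x * q⁻¹ * x⁻¹ ∈ Q p ∧
      t * (q * x * q⁻¹ * x⁻¹) = (q * x * q⁻¹ * x⁻¹) * t ∧
      q * (q * x * q⁻¹ * x⁻¹) = (q * x * q⁻¹ * x⁻¹) * q := by
    intro x hx hxp
    have h1 : x * q⁻¹ * x⁻¹ ∈ Q p := (B.large p c.hp).conj_mem x hxp _ (inv_mem hq)
    have h2 : q * x * q⁻¹ * x⁻¹ ∈ Q p := by
      have := mul_mem hq h1
      have e : q * (x * q⁻¹ * x⁻¹) = q * x * q⁻¹ * x⁻¹ := by group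
      rwa [e] at this
    have h3 : (B.large p c.hp).pr ⟨q * x * q⁻¹ * x⁻¹, h2⟩ =
        ac (B.large p c.hp) x hxp ((B.large p c.hp).pr ⟨q, hq⟩) + (B.large p c.hp).pr ⟨q, hq⟩ := by
      have e1 : (⟨q * x * q⁻¹ * x⁻¹, h2⟩ : Q p) = ⟨q, hq⟩ * ⟨x * q * x⁻¹,
          (B.large p c.hp).conj_mem x hxp _ hq⟩⁻¹ := by
        apply Subtype.ext
        show q * x * q⁻¹ * x⁻¹ = q * (x * q * x⁻¹)⁻¹
        group
      rw [e1, (B.large p c.hp).pr_mul, (B.large p c.hp).pr_inv, (B.large p c.hp).neg_eq, ac_pr, add_comm]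
    have h4 : (B.large p c.hp).pr ⟨q, hq⟩ ∈ S.perp (Com.U B c.toCom) := by
      rw [S.mem_perp]
      intro u hu
      obtain ⟨d, h5, h6, rfl⟩ := (Com.mem_U B c.toCom).1 hu
      exact ((B.large p c.hp).b_pr _ _).2 (hqD d h5 h6).symm
    have h5 := duality (ac_iso (B.large p c.hp) x hxp) (fun u hu => Com.X_U B c.toCom hx hxp hu)
      (fun r hr => c.X_perp B hx hxp hr) h4
    refine ⟨h2, ?_, ?_⟩
    · rw [← c.fix_iff B h2, h3, hWW]
      exact h5
    · have h6 := (ac_iso (B.large p c.hp) x hxp).q_f ((B.large p c.hp).pr ⟨q, hq⟩)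
      have h7 : (qs (B.large p c.hp)).q (ac (B.large p c.hp) x hxp ((B.large p c.hp).pr ⟨q, hq⟩) +
          (B.large p c.hp).pr ⟨q, hq⟩) = 0 := c.q_W B h5
      rw [h7, ← h3] at h6
      exact ((B.large p c.hp).b_pr _ _).1 h6.symm
  obtain ⟨s, hs⟩ : ∃ s, s = q * t * q⁻¹ := ⟨_, rfl⟩
  rw [← hs]
  have hsP : s ∈ P := by rw [hs]; exact B.conj_mem t c.ht q
  have hts : t * s = t * q * t⁻¹ * q⁻¹ := by rw [hs, B.inv c.ht]; group
  have hgood : Good P t s := by
    refine ⟨⟨c.ht, hsP, ?_, ?_⟩, ?_⟩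
    · intro h
      apply hqt
      have : s * q = q * t := by rw [hs]; group
      rw [← this, ← h]
    · have h1 := c.sq_comm B hq
      rw [← hts] at h1
      have h2 : (t * s)⁻¹ = t * s := inv_eq_of_mul_eq_one_left h1
      rw [mul_inv_rev, B.inv c.ht, B.inv hsP] at h2
      exact h2.symm
    · intro h
      have h1 : t * s ∈ Q p := by rw [hts]; exact Com.u_mem B c.toCom hq
      have h2 := B.eq_of_mem p c.hp _ h h1
      rw [hts] at h2
      exact c.ne_p B q h2
  refine ⟨hgood, ?_⟩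
  -- `D ≤ Q s`
  have hDs : ∀ d ∈ Q p, d ∈ Q t → d ∈ Q s := by
    intro d h1 h2
    have : d = q * d * q⁻¹ := by rw [hqD d h1 h2]; group
    rw [this, hs]
    exact B.Q_conj t c.ht q d h2
  by_contra hcard
  push Not at hcard
  -- the groups
  set X : Subgroup G := Subgroup.centralizer ({p} : Set G) ⊓ Q t with hX
  set K : Subgroup G := (Subgroup.centralizer ({t} : Set G) ⊓ Q p) ⊓ Subgroup.centralizer ({q} : Set G) with hK
  set D : Subgroup G := Q p ⊓ Q t with hD
  have hDX : D ≤ X := by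
    intro d hd
    obtain ⟨h1, h2⟩ := Subgroup.mem_inf.1 hd
    exact Subgroup.mem_inf.2 ⟨Subgroup.mem_centralizer_singleton_iff.2 (Com.D_p B c.toCom h1), h2⟩
  have hDK : D ≤ K := by
    intro d hd
    obtain ⟨h1, h2⟩ := Subgroup.mem_inf.1 hd
    exact Subgroup.mem_inf.2 ⟨Subgroup.mem_inf.2 ⟨Subgroup.mem_centralizer_singleton_iff.2
      (Com.D_t B c.toCom h2), h1⟩, Subgroup.mem_centralizer_singleton_iff.2 (hqD d h1 h2).symm⟩
  -- `D = Q t ∩ Q s`
  have hDle : D ≤ Q t ⊓ Q s := by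
    intro d hd
    obtain ⟨h1, h2⟩ := Subgroup.mem_inf.1 hd
    exact Subgroup.mem_inf.2 ⟨h2, hDs d h1 h2⟩
  have hDeq : Q t ⊓ Q s = D := (Subgroup.eq_of_le_of_card_ge hDle hcard).symm
  have hmem : ∀ x ∈ X, q * x * q⁻¹ * x⁻¹ ∈ D → x ∈ D := by
    intro x hx h1
    obtain ⟨hx1, hx2⟩ := Subgroup.mem_inf.1 hx
    rw [← hDeq]
    refine Subgroup.mem_inf.2 ⟨hx2, ?_⟩
    have h2 : q * x * q⁻¹ ∈ Q s := by rw [hs]; exact B.Q_conj t c.ht q x hx2
    have h3 : q * x * q⁻¹ * x⁻¹ ∈ Q s := by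
      obtain ⟨h4, h5⟩ := Subgroup.mem_inf.1 h1
      exact hDs _ h4 h5
    have h4 := mul_mem (inv_mem h3) h2
    have e : (q * x * q⁻¹ * x⁻¹)⁻¹ * (q * x * q⁻¹) = x := by group
    rwa [e] at h4
  have hXK : ∀ x : X, q * (x : G) * q⁻¹ * (x : G)⁻¹ ∈ K := by
    rintro ⟨x, hx⟩
    obtain ⟨hx1, hx2⟩ := Subgroup.mem_inf.1 hx
    obtain ⟨h1, h2, h3⟩ := hcom x hx2 (Subgroup.mem_centralizer_singleton_iff.1 hx1)
    exact Subgroup.mem_inf.2 ⟨Subgroup.mem_inf.2 ⟨Subgroup.mem_centralizer_singleton_iff.2 h2.symm, h1⟩,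
      Subgroup.mem_centralizer_singleton_iff.2 h3.symm⟩
  -- conjugation by `x ∈ X` on `K` modulo `D`
  have hconj : ∀ x ∈ X, ∀ k ∈ K, x * k * x⁻¹ ∈ D ↔ k ∈ D := by
    intro x hx k hk
    obtain ⟨hx1, hx2⟩ := Subgroup.mem_inf.1 hx
    obtain ⟨hk1, hk2⟩ := Subgroup.mem_inf.1 (Subgroup.mem_inf.1 hk).1
    have h1 : x * k * x⁻¹ * k⁻¹ ∈ D := Com.RX B c.toCom hk2
      (Subgroup.mem_centralizer_singleton_iff.1 hk1) hx2 (Subgroup.mem_centralizer_singleton_iff.1 hx1)
    have e : x * k * x⁻¹ = x * k * x⁻¹ * k⁻¹ * k := by group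
    rw [e, Subgroup.mul_mem_cancel_left _ h1]
  have hdiff : ∀ x ∈ X, ∀ y ∈ X, x⁻¹ * y ∈ D ↔
      (q * x * q⁻¹ * x⁻¹)⁻¹ * (q * y * q⁻¹ * y⁻¹) ∈ D := by
    intro x hx y hy
    have hxy : x⁻¹ * y ∈ X := mul_mem (inv_mem hx) hy
    have e : (q * x * q⁻¹ * x⁻¹)⁻¹ * (q * y * q⁻¹ * y⁻¹) =
        x * (q * (x⁻¹ * y) * q⁻¹ * (x⁻¹ * y)⁻¹) * x⁻¹ := by group
    rw [e, hconj x hx _ (hXK ⟨_, hxy⟩)]
    constructor
    · intro h
      have h1 : q * (x⁻¹ * y) * q⁻¹ * (x⁻¹ * y)⁻¹ = 1 := by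
        obtain ⟨h2, h3⟩ := Subgroup.mem_inf.1 h
        rw [hqD _ h2 h3]; group
      rw [h1]; exact one_mem _
    · exact hmem _ hxy
  have hle : Nat.card (X ⧸ D.subgroupOf X) ≤ Nat.card (K ⧸ D.subgroupOf K) := by
    let F : X ⧸ D.subgroupOf X → K ⧸ D.subgroupOf K :=
      Quotient.map' (fun x : X => (⟨q * (x : G) * q⁻¹ * (x : G)⁻¹, hXK x⟩ : K)) (by
        intro x y h
        rw [QuotientGroup.leftRel_apply] at h ⊢
        exact (hdiff x x.2 y y.2).1 h)
    apply Nat.card_le_card_of_injective F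
    intro a b hab
    obtain ⟨x, rfl⟩ := QuotientGroup.mk_surjective a
    obtain ⟨y, rfl⟩ := QuotientGroup.mk_surjective b
    have h1 : ((⟨q * (x : G) * q⁻¹ * (x : G)⁻¹, hXK x⟩ : K) : K ⧸ D.subgroupOf K) =
        ((⟨q * (y : G) * q⁻¹ * (y : G)⁻¹, hXK y⟩ : K) : K ⧸ D.subgroupOf K) := hab
    rw [QuotientGroup.eq] at h1 ⊢
    exact (hdiff x x.2 y y.2).2 h1
  have hXle : Nat.card X ≤ Nat.card K := by
    rw [Subgroup.card_eq_card_quotient_mul_card_subgroup (D.subgroupOf X),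
      Subgroup.card_eq_card_quotient_mul_card_subgroup (D.subgroupOf K),
      Nat.card_congr (Subgroup.subgroupOfEquivOfLe hDX).toEquiv,
      Nat.card_congr (Subgroup.subgroupOfEquivOfLe hDK).toEquiv]
    exact Nat.mul_le_mul_right _ hle
  have hRX := c.card_R_eq B f
  have hKR : K ≤ Subgroup.centralizer ({t} : Set G) ⊓ Q p := inf_le_left
  have hKeq : K = Subgroup.centralizer ({t} : Set G) ⊓ Q p :=
    Subgroup.eq_of_le_of_card_ge hKR (by rw [hRX]; exact hXle)
  -- `q` commutes with `R`, so with `t`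
  apply hqt
  rw [← c.fix_iff B hq, S.mem_perp]
  intro u hu
  rw [← hWW] at hu
  obtain ⟨x, hx, rfl⟩ := pr_surj _ u
  rw [c.fix_iff B] at hu
  have h1 : x ∈ K := by
    rw [hKeq]
    exact Subgroup.mem_inf.2 ⟨Subgroup.mem_centralizer_singleton_iff.2 hu.symm, hx⟩
  exact ((B.large p c.hp).b_pr _ _).2 (Subgroup.mem_centralizer_singleton_iff.1 (Subgroup.mem_inf.1 h1).2)

/-! ### counting in `D` -/

theorem exists_ne_one {D : Subgroup G} (h : 1 < Nat.card D) : ∃ d ∈ D, d ≠ 1 := by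
  by_contra hcon
  push Not at hcon
  have : D = ⊥ := by
    rw [eq_bot_iff]
    intro d hd
    exact Subgroup.mem_bot.2 (hcon d hd)
  rw [this, Subgroup.card_bot] at h
  omega

theorem exists_two {D : Subgroup G} (h : 2 < Nat.card D) :
    ∃ d ∈ D, d ≠ 1 ∧ ∃ e ∈ D, e ≠ 1 ∧ d ≠ e := by
  classical
  obtain ⟨d, hd, hd1⟩ := exists_ne_one (by omega : 1 < Nat.card D)
  refine ⟨d, hd, hd1, ?_⟩
  by_contra hcon
  push Not at hcon
  have h1 : (D : Set G) ⊆ (({1, d} : Finset G) : Set G) := by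
    intro x hx
    simp only [Finset.coe_insert, Finset.coe_singleton, Set.mem_insert_iff, Set.mem_singleton_iff]
    by_cases h2 : x = 1
    · exact Or.inl h2
    · exact Or.inr (hcon x hx h2).symm
  have h2 : Nat.card D = Set.ncard (D : Set G) := rfl
  have h3 := Set.ncard_le_ncard h1 (Finset.finite_toSet _)
  rw [Set.ncard_coe_finset] at h3
  have h4 : ({1, d} : Finset G).card ≤ 2 := Finset.card_le_two
  omega

theorem card_ge_four [Finite G] {D : Subgroup G} {d e : G} (hd : d ∈ D) (he : e ∈ D) (hd1 : d ≠ 1) (he1 : e ≠ 1)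
    (hde : d ≠ e) (hee : e * e = 1) : 4 ≤ Nat.card D := by
  classical
  have h1 : (({1, d, e, d * e} : Finset G) : Set G) ⊆ (D : Set G) := by
    intro x hx
    simp only [Finset.coe_insert, Finset.coe_singleton, Set.mem_insert_iff, Set.mem_singleton_iff] at hx
    rcases hx with rfl | rfl | rfl | rfl
    · exact one_mem _
    · exact hd
    · exact he
    · exact mul_mem hd he
  have h2 : ({1, d, e, d * e} : Finset G).card = 4 := by
    rw [Finset.card_insert_of_notMem, Finset.card_insert_of_notMem, Finset.card_insert_of_notMem,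
      Finset.card_singleton]
    · simp only [Finset.mem_singleton]
      exact fun h => hd1 (right_eq_mul.1 h)
    · simp only [Finset.mem_insert, Finset.mem_singleton, not_or]
      exact ⟨hde, fun h => he1 (left_eq_mul.1 h)⟩
    · simp only [Finset.mem_insert, Finset.mem_singleton, not_or]
      refine ⟨Ne.symm hd1, Ne.symm he1, fun h => hde ?_⟩
      have : d * e = e * e := h.symm.trans hee.symm
      exact mul_right_cancel this
  have h3 := Set.ncard_le_ncard h1 (Set.toFinite _)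
  rw [Set.ncard_coe_finset, h2] at h3
  exact h3

/-- `|D| ≤ 4` -/
theorem Good.card_le [Finite G] (B : Base P Q) (c : Good P p t) : Nat.card ↥(Q p ⊓ Q t) ≤ 4 := by
  classical
  by_contra hcon
  push Not at hcon
  obtain ⟨d, hd, hd1, e, he, he1, hde⟩ := exists_two (by omega : 2 < Nat.card ↥(Q p ⊓ Q t))
  have h1 : ((Q p ⊓ Q t : Subgroup G) : Set G) ⊆ (({1, d, e, d * e} : Finset G) : Set G) := by
    intro x hx
    simp only [Finset.coe_insert, Finset.coe_singleton, Set.mem_insert_iff, Set.mem_singleton_iff]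
    by_cases h2 : x = 1
    · exact Or.inl h2
    by_cases h3 : x = d
    · exact Or.inr (Or.inl h3)
    by_cases h4 : x = e
    · exact Or.inr (Or.inr (Or.inl h4))
    have hd' := Subgroup.mem_inf.1 hd
    have he' := Subgroup.mem_inf.1 he
    have hx' := Subgroup.mem_inf.1 hx
    exact Or.inr (Or.inr (Or.inr (c.D_three B hd'.1 hd'.2 he'.1 he'.2 hx'.1 hx'.2 hd1 he1 h2 hde
      (Ne.symm h3) (Ne.symm h4))))
  have h3 := Set.ncard_le_ncard h1 (Finset.finite_toSet _)
  rw [Set.ncard_coe_finset] at h3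
  have h4 : ({1, d, e, d * e} : Finset G).card ≤ 4 := Finset.card_le_four
  have h5 : Nat.card ↥(Q p ⊓ Q t) = Set.ncard ((Q p ⊓ Q t : Subgroup G) : Set G) := rfl
  omega

/-! ### type F -/

/-- type F: `|D| ≤ 2` -/
theorem TypeF.not_two [Finite G] (B : Base P Q) (h64 : ∀ p (hp : p ∈ P), 64 ≤ Nat.card (B.large p hp).V)
    (c : Good P p t) (f : TypeF Q p t) : ¬ 2 < Nat.card ↥(Q p ⊓ Q t) := by
  intro h
  obtain ⟨d, hd, hd1, e, he, he1, hde⟩ := exists_two h
  have he' := Subgroup.mem_inf.1 he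
  have h1 := card_ge_four hd he hd1 he1 hde (Com.D_sq B c.toCom he'.1 he'.2)
  obtain ⟨s, c', h2⟩ := c.shift B (h64 p c.hp) f
  have h3 := Good.card_le B c'
  omega

/-- the action of `s` on `V_t` as a set of commutators -/
theorem W_eq_of_mul_mem (B : Base P Q) {s : G} (c : Com P t p) (c' : Com P t s) (h : p * s ∈ Q t) :
    QS.W (Com.T B c') = QS.W (Com.T B c) := by
  have key : Com.T B c' = Com.T B c := by
    ext v
    obtain ⟨x, hx, rfl⟩ := pr_surj (B.large t c.hp) v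
    have hps : p * s * t = t * (p * s) := by rw [mul_assoc, ← c'.com, ← mul_assoc, ← c.com, mul_assoc]
    have h1 : (B.large t c.hp).act ⟨p * s, Subgroup.mem_centralizer_singleton_iff.2 hps⟩ = 1 :=
      (B.large t c.hp).act_mem _ h
    have h2 : ac (B.large t c.hp) (p * s) hps ((B.large t c.hp).pr ⟨x, hx⟩) = (B.large t c.hp).pr ⟨x, hx⟩ := by
      show (B.large t c.hp).act ⟨p * s, _⟩ _ = _
      rw [h1]; rfl
    rw [ac_mul _ _ _ c.com.symm c'.com.symm] at h2
    have h3 := congrArg (Com.T B c) h2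
    have h4 : Com.T B c (Com.T B c (Com.T B c' ((B.large t c.hp).pr ⟨x, hx⟩))) =
      Com.T B c ((B.large t c.hp).pr ⟨x, hx⟩) := h3
    rw [(Com.T_inv B c).inv] at h4
    exact h4
  rw [key]

/-- **type F implies `D = 1`** -/
theorem TypeF.eq_one [Finite G] (B : Base P Q) (h64 : ∀ p (hp : p ∈ P), 64 ≤ Nat.card (B.large p hp).V)
    (c : Good P p t) (f : TypeF Q p t) {d : G} (h1 : d ∈ Q p) (h2 : d ∈ Q t) : d = 1 := by
  by_contra hd
  have h3 := TypeF.not_two B h64 c f
  -- `D = {1, d}`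
  have hD : ∀ e ∈ Q p, e ∈ Q t → e = 1 ∨ e = d := by
    intro e h4 h5
    by_contra hcon
    push Not at hcon
    have := card_ge_four (D := Q p ⊓ Q t) (Subgroup.mem_inf.2 ⟨h1, h2⟩) (Subgroup.mem_inf.2 ⟨h4, h5⟩) hd hcon.1
      (Ne.symm hcon.2) (Com.D_sq B c.toCom h4 h5)
    omega
  obtain ⟨x, hx, hxt⟩ := c.exists_x B h1 h2 hd
  have hxd := c.comm_x B hx h1 hxt
  have hxD : ∀ e ∈ Q p, e ∈ Q t → x * e = e * x := by
    intro e h4 h5
    rcases hD e h4 h5 with rfl | rfl
    · group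
    · exact hxd
  have hdp := Com.D_p B c.toCom h1
  have hdt := Com.D_t B c.toCom h2
  have hxt' : t * x ≠ x * t := by
    intro h
    rw [← h] at hxt
    have h4 : t * (d * p) = t := by
      rw [← hxt]; group
    have h5 : d * p = 1 := mul_eq_left.1 h4
    have h6 : d = p := by rw [← B.inv c.hp]; exact eq_inv_of_mul_eq_one_left h5
    rw [h6] at h2
    exact Com.notMem B c.toCom.symm h2
  obtain ⟨c', h4⟩ := shift_q B c f hx hxD hxt'
  have h5 : 1 < Nat.card ↥(Q p ⊓ Q t) := by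
    by_contra hcon
    have h6 : Nat.card ↥(Q p ⊓ Q t) = 1 := by
      have := Nat.card_pos (α := ↥(Q p ⊓ Q t))
      omega
    have h7 := Subgroup.card_eq_one.1 h6
    have h8 : d ∈ (Q p ⊓ Q t : Subgroup G) := Subgroup.mem_inf.2 ⟨h1, h2⟩
    rw [h7] at h8
    exact hd (Subgroup.mem_bot.1 h8)
  -- `(t, t d p)` is of type U
  rcases c'.dichotomy B (h64 t c.ht) with hU | hF
  · have hl := line_of_typeU B c' hU
    have hcW := hl.card_W B
    have h6 : p * (x * t * x⁻¹) ∈ Q t := by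
      rw [hxt]
      have e : p * (t * (d * p)) = t * d := by
        calc p * (t * (d * p)) = (p * t) * (d * p) := by group
          _ = t * (p * d) * p := by rw [c.com]; group
          _ = t * (d * p) * p := by rw [hdp]
          _ = t * d * (p * p) := by group
          _ = t * d := by rw [B.sq c.hp, mul_one]
      rw [e]
      exact mul_mem (B.large t c.ht).z_mem h2
    have h7 := W_eq_of_mul_mem B c.toCom.symm hl.good.toCom h6
    rw [h7] at hcW
    have h8 := c.symm.card_W B f.symm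
    have h9 : Nat.card (QS.W (Com.T B c.symm.toCom)) = 4 := hcW
    rw [h9] at h8
    have h10 := h64 t c.ht
    have h11 : Nat.card (B.large t c.ht).V = Nat.card (B.large t c.symm.hp).V := rfl
    omega
  · exact TypeF.not_two B h64 c' hF (by omega)

/-! ### disjoint lines -/

/-- U-lines of `V_t` which meet are equal (in terms of group elements) -/
def Disj (P : Set G) (Q : G → Subgroup G) (t : G) : Prop :=
  ∀ s s', Line P Q t s → Line P Q t s' → ∀ x ∈ Q t, ∀ x' ∈ Q t,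
    s * x * s⁻¹ * x⁻¹ ≠ 1 → s * x * s⁻¹ * x⁻¹ ≠ t →
    (s * x * s⁻¹ * x⁻¹ = s' * x' * s'⁻¹ * x'⁻¹ ∨ s * x * s⁻¹ * x⁻¹ = s' * x' * s'⁻¹ * x'⁻¹ * t) →
    s * s' ∈ Q t

theorem Disj.mem (B : Base P Q) {s s' : G} (hD : Disj P Q t) (l : Line P Q t s) (l' : Line P Q t s')
    {v v' : (B.large t l.good.hp).V} (h0 : Com.T B l.good.toCom v + v ≠ 0)
    (h : Com.T B l.good.toCom v + v = Com.T B l'.good.toCom v' + v') : s * s' ∈ Q t := by
  obtain ⟨x, hx, rfl⟩ := pr_surj _ v
  obtain ⟨x', hx', rfl⟩ := pr_surj _ v'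
  rw [WCIrr.Com.T, ac_add] at h0
  rw [WCIrr.Com.T, WCIrr.Com.T, ac_add, ac_add, (B.large t l.good.hp).pr_eq_pr] at h
  refine hD s s' l l' x hx x' hx' (fun h1 => h0 ?_) (fun h1 => h0 ?_) h
  · exact (B.large t l.good.hp).pr_eq_zero.2 (Or.inl h1)
  · exact (B.large t l.good.hp).pr_eq_zero.2 (Or.inr h1)

/-- three root elements with product `1` on `V_t` -/
theorem no_three [Finite G] (B : Base P Q) (hD : Disj P Q t) {s₁ s₂ s₃ : G} (l₁ : Line P Q t s₁)
    (l₂ : Line P Q t s₂) (l₃ : Line P Q t s₃) (h : s₁ * s₂ * s₃ ∈ Q t) (h12 : s₁ * s₂ ∉ Q t) : False := by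
  set S := qs (B.large t l₁.good.hp) with hS
  have hc : ∀ {s : G}, Line P Q t s → s * t = t * s := fun l => l.good.com.symm
  have h12c : s₁ * s₂ * t = t * (s₁ * s₂) := by rw [mul_assoc, hc l₂, ← mul_assoc, hc l₁, mul_assoc]
  have h123c : s₁ * s₂ * s₃ * t = t * (s₁ * s₂ * s₃) := by
    rw [mul_assoc, hc l₃, ← mul_assoc, h12c, mul_assoc]
  have htriv : ∀ (g : G) (hg : g * t = t * g), g ∈ Q t → ∀ v, ac (B.large t l₁.good.hp) g hg v = v := by
    intro g hg hgQ v
    have h1 : (B.large t l₁.good.hp).act ⟨g, Subgroup.mem_centralizer_singleton_iff.2 hg⟩ = 1 :=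
      (B.large t l₁.good.hp).act_mem _ hgQ
    show (B.large t l₁.good.hp).act ⟨g, _⟩ v = v
    rw [h1]; rfl
  have hT3 : ∀ v, Com.T B l₃.good.toCom v = Com.T B l₂.good.toCom (Com.T B l₁.good.toCom v) := by
    intro v
    have h1 := htriv _ h123c h v
    rw [ac_mul _ _ _ h12c (hc l₃), ac_mul _ _ _ (hc l₁) (hc l₂)] at h1
    have h2 : Com.T B l₁.good.toCom (Com.T B l₂.good.toCom (Com.T B l₃.good.toCom v)) = v := h1
    have h3 := (Com.T_inv B l₂.good.toCom).inv (Com.T B l₃.good.toCom v)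
    have h4 := (Com.T_inv B l₁.good.toCom).inv (Com.T B l₂.good.toCom (Com.T B l₃.good.toCom v))
    rw [h2] at h4
    rw [h4, h3]
  -- `v` fixed by `T₁`, not by `T₂`
  have hex : ∃ v, Com.T B l₁.good.toCom v = v ∧ Com.T B l₂.good.toCom v ≠ v := by
    by_contra hcon
    push Not at hcon
    have h1 : S.perp (QS.W (Com.T B l₁.good.toCom)) ≤ S.perp (QS.W (Com.T B l₂.good.toCom)) := by
      intro v hv
      exact (Com.T_inv B l₂.good.toCom).fix_iff.1 (hcon v ((Com.T_inv B l₁.good.toCom).fix_iff.2 hv))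
    have h2 : QS.W (Com.T B l₂.good.toCom) ≤ QS.W (Com.T B l₁.good.toCom) := by
      intro w hw
      rw [← S.perp_perp (QS.W (Com.T B l₁.good.toCom)), S.mem_perp]
      intro u hu
      rw [S.b_comm]
      exact S.mem_perp.1 (h1 hu) w hw
    have h3 := Line.card_W_eq B l₂ l₁ h2
    have h4 := Line.eq_of_W B l₁ l₂ h3.symm
    exact h12 h4
  obtain ⟨v, hv1, hv2⟩ := hex
  have h3v : Com.T B l₃.good.toCom v = Com.T B l₂.good.toCom v := by rw [hT3, hv1]
  have h23 : s₂ * s₃ ∈ Q t := by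
    refine hD.mem B l₂ l₃ (v := v) (v' := v) (fun h0 => hv2 (eq_of_add h0)) ?_
    rw [h3v]
  -- `T₁ = 1`
  have h23c : s₂ * s₃ * t = t * (s₂ * s₃) := by rw [mul_assoc, hc l₃, ← mul_assoc, hc l₂, mul_assoc]
  have h1Q : s₁ ∈ Q t := by
    have h5 := mul_mem h (inv_mem h23)
    have e : s₁ * s₂ * s₃ * (s₂ * s₃)⁻¹ = s₁ := by group
    rwa [e] at h5
  exact Com.notMem B l₁.good.toCom h1Q

/-! ### no pairs of type F -/

theorem TypeF.false_of_disj [Finite G] (B : Base P Q)
    (h64 : ∀ p (hp : p ∈ P), 64 ≤ Nat.card (B.large p hp).V) (hD : Disj P Q t)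
    (c : Good P p t) (f : TypeF Q p t) : False := by
  set S := qs (B.large p c.hp) with hS
  have hD1 : ∀ d ∈ Q p, d ∈ Q t → d = 1 := fun d h1 h2 => TypeF.eq_one B h64 c f h1 h2
  -- all `(t, t^q)` are lines
  have hline : ∀ q ∈ Q p, t * q ≠ q * t → Line P Q t (q * t * q⁻¹) := by
    intro q hq hqt
    obtain ⟨c', h1⟩ := shift_q B c f hq (fun d h1 h2 => by rw [hD1 d h1 h2]; group) hqt
    rcases c'.dichotomy B (h64 t c.ht) with hU | hF
    · exact line_of_typeU B c' hU
    · exfalso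
      have h2 := Nat.card_pos (α := ↥(Q p ⊓ Q t))
      obtain ⟨d, hd, hd1⟩ := exists_ne_one (by omega : 1 < Nat.card ↥(Q t ⊓ Q (q * t * q⁻¹)))
      obtain ⟨h3, h4⟩ := Subgroup.mem_inf.1 hd
      exact hd1 (TypeF.eq_one B h64 c' hF h3 h4)
  -- choice of `q`
  obtain ⟨v, hv⟩ := Com.T_ne B c.toCom
  obtain ⟨q, hq, rfl⟩ := pr_surj _ v
  have hqt : t * q ≠ q * t := by
    intro h
    apply hv
    rw [WCIrr.Com.T, ac_pr]
    congr 1
    apply Subtype.ext
    show t * q * t⁻¹ = q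
    rw [h]; group
  set w := Com.T B c.toCom ((B.large p c.hp).pr ⟨q, hq⟩) + (B.large p c.hp).pr ⟨q, hq⟩ with hw
  -- choice of `q'`
  have hex : ∃ w' ∈ QS.W (Com.T B c.toCom), w' ≠ 0 ∧ w' ≠ w ∧ S.b ((B.large p c.hp).pr ⟨q, hq⟩) w' = 0 := by
    by_contra hcon
    push Not at hcon
    have h1 : Nat.card (QS.W (Com.T B c.toCom)) ≤ 4 := by
      apply card_le_four
      intro a ha b hb e he ha0 hb0 he0 hab hae hbe
      -- among three vectors two are different from `w` or ...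
      have key : ∀ u ∈ QS.W (Com.T B c.toCom), u ≠ 0 → S.b ((B.large p c.hp).pr ⟨q, hq⟩) u = 0 → u = w := by
        intro u hu hu0 hub
        by_contra huw
        exact hcon u hu hu0 huw hub
      have hval : ∀ u, S.b ((B.large p c.hp).pr ⟨q, hq⟩) u = 0 ∨ S.b ((B.large p c.hp).pr ⟨q, hq⟩) u = 1 :=
        fun u => zm_cases _
      have hsum : ∀ u u' : (B.large p c.hp).V, u ≠ u' → u + u' ≠ 0 := fun u u' h h' => h (eq_of_add h')
      have k : ∀ u u', u ∈ QS.W (Com.T B c.toCom) → u' ∈ QS.W (Com.T B c.toCom) → u ≠ u' →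
          S.b ((B.large p c.hp).pr ⟨q, hq⟩) u = 1 → S.b ((B.large p c.hp).pr ⟨q, hq⟩) u' = 1 → u + u' = w := by
        intro u u' hu hu' hne h1 h2
        refine key _ (Submodule.add_mem _ hu hu') (hsum u u' hne) ?_
        rw [map_add, h1, h2]; decide
      rcases hval a with h1 | h1 <;> rcases hval b with h2 | h2 <;> rcases hval e with h3 | h3
      · exact absurd ((key a ha ha0 h1).trans (key b hb hb0 h2).symm) hab
      · exact absurd ((key a ha ha0 h1).trans (key b hb hb0 h2).symm) hab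
      · exact absurd ((key a ha ha0 h1).trans (key e he he0 h3).symm) hae
      · have h4 := key a ha ha0 h1
        have h5 := k b e hb he hbe h2 h3
        -- `b + e = w = a`
        rw [h4, ← h5]
        have : b + e + b = (b + b) + e := by abel
        rw [this, vadd_self, zero_add]
      · exact absurd ((key b hb hb0 h2).trans (key e he he0 h3).symm) hbe
      · have h4 := key b hb hb0 h2
        have h5 := k a e ha he hae h1 h3
        rw [h4, ← h5]
        have : a + (a + e) = (a + a) + e := by abel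
        rw [this, vadd_self, zero_add]
      · have h4 := key e he he0 h3
        have h5 := k a b ha hb hab h1 h2
        rw [h4, ← h5]
      · exfalso
        have h4 := k a b ha hb hab h1 h2
        have h5 := k a e ha he hae h1 h3
        exact hbe (add_left_cancel (h4.trans h5.symm))
    have h2 := c.card_W B f
    have h3 := h64 p c.hp
    have h4 := Nat.mul_le_mul h1 h1
    omega
  obtain ⟨w', ⟨u', hu'⟩, hw'0, hw'w, hb⟩ := hex
  obtain ⟨q', hq', rfl⟩ := pr_surj _ u'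
  have hw' : Com.T B c.toCom ((B.large p c.hp).pr ⟨q', hq'⟩) + (B.large p c.hp).pr ⟨q', hq'⟩ = w' := hu'
  have hq't : t * q' ≠ q' * t := by
    intro h
    apply hw'0
    rw [← hw', WCIrr.Com.T, ac_add, (B.large p c.hp).pr_eq_zero]
    left
    show t * q' * t⁻¹ * q'⁻¹ = 1
    rw [h]; group
  have hqq't : t * (q * q') ≠ (q * q') * t := by
    intro h
    apply hw'w
    have h1 : Com.T B c.toCom ((B.large p c.hp).pr ⟨q * q', mul_mem hq hq'⟩) +
        (B.large p c.hp).pr ⟨q * q', mul_mem hq hq'⟩ = 0 := by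
      rw [WCIrr.Com.T, ac_add, (B.large p c.hp).pr_eq_zero]
      left
      show t * (q * q') * t⁻¹ * (q * q')⁻¹ = 1
      rw [h]; group
    have h2 : (B.large p c.hp).pr ⟨q * q', mul_mem hq hq'⟩ =
        (B.large p c.hp).pr ⟨q, hq⟩ + (B.large p c.hp).pr ⟨q', hq'⟩ := (B.large p c.hp).pr_mul ⟨q, hq⟩ ⟨q', hq'⟩
    rw [h2, map_add] at h1
    have h3 : w + w' = 0 := by
      rw [← h1, ← hw', hw]; abel
    exact (eq_of_add h3).symm
  -- `n_{qq'} = n_q n_{q'}`
  obtain ⟨n, hn⟩ : ∃ n, n = t * q * t⁻¹ * q⁻¹ := ⟨_, rfl⟩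
  obtain ⟨n', hn'⟩ : ∃ n', n' = t * q' * t⁻¹ * q'⁻¹ := ⟨_, rfl⟩
  have hqn' : q * n' = n' * q := by
    have h1 : S.b ((B.large p c.hp).pr ⟨q, hq⟩) ((B.large p c.hp).pr ⟨t * q' * t⁻¹ * q'⁻¹,
        Com.u_mem B c.toCom hq'⟩) = 0 := by
      rw [← ac_add (B.large p c.hp) t c.com.symm q' hq']
      have h2 : ac (B.large p c.hp) t c.com.symm ((B.large p c.hp).pr ⟨q', hq'⟩) +
        (B.large p c.hp).pr ⟨q', hq'⟩ = w' := hw'
      rw [h2]; exact hb
    rw [hn']
    exact ((B.large p c.hp).b_pr _ _).1 h1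
  have hn2 : n * n = 1 := by rw [hn]; exact c.sq_comm B hq
  have hn'2 : n' * n' = 1 := by rw [hn']; exact c.sq_comm B hq'
  have htt := B.sq c.ht
  have htn' : t * n' * t = n' := by
    have h1 := Com.inv_aux B c.toCom (x := q')
    rw [← hn', B.inv c.ht] at h1
    rw [h1]
    exact inv_eq_of_mul_eq_one_left hn'2
  have hs1 : q * t * q⁻¹ = t * n := by rw [hn]; exact Com.conj_eq B c.toCom q
  have hs2 : q' * t * q'⁻¹ = t * n' := by rw [hn']; exact Com.conj_eq B c.toCom q'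
  have hs3 : (q * q') * t * (q * q')⁻¹ = t * n * n' := by
    calc (q * q') * t * (q * q')⁻¹ = q * (q' * t * q'⁻¹) * q⁻¹ := by group
      _ = (q * t * q⁻¹) * (q * n' * q⁻¹) := by rw [hs2]; group
      _ = t * n * n' := by rw [hs1, hqn']; group
  have l1 := hline q hq hqt
  have l2 := hline q' hq' hq't
  have l3 := hline (q * q') (mul_mem hq hq') hqq't
  refine no_three B hD l1 l2 l3 ?_ ?_
  · have e : q * t * q⁻¹ * (q' * t * q'⁻¹) * (q * q' * t * (q * q')⁻¹) = t := by
      rw [hs1, hs2, hs3]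
      have h1 : t * n * t = n := by
        have h1 := Com.inv_aux B c.toCom (x := q)
        rw [← hn, B.inv c.ht] at h1
        rw [h1]
        exact inv_eq_of_mul_eq_one_left hn2
      -- `n`, `n'` commute
      have hnn : n * n' = n' * n := by
        rw [hn]
        have h2 : t * n' = n' * t := by
          calc t * n' = (t * n' * t) * (t⁻¹) := by group
            _ = n' * t := by rw [htn', B.inv c.ht]
        have h3 : t⁻¹ * n' = n' * t⁻¹ := by rw [B.inv c.ht]; exact h2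
        have h4 : q⁻¹ * n' = n' * q⁻¹ := by
          rw [inv_mul_eq_iff_eq_mul, ← mul_assoc, hqn', mul_inv_cancel_right]
        calc t * q * t⁻¹ * q⁻¹ * n' = t * q * t⁻¹ * (q⁻¹ * n') := by group
          _ = t * q * (t⁻¹ * n') * q⁻¹ := by rw [h4]; group
          _ = t * (q * n') * t⁻¹ * q⁻¹ := by rw [h3]; group
          _ = (t * n') * q * t⁻¹ * q⁻¹ := by rw [hqn']; group
          _ = n' * (t * q * t⁻¹ * q⁻¹) := by rw [h2]; group
      calc t * n * (t * n') * (t * n * n') = (t * n * t) * (n' * t * n) * n' := by group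
        _ = n * (n' * t * n) * n' := by rw [h1]
        _ = n * n' * t * (n * n') := by group
        _ = n' * n * t * (n' * n) := by rw [hnn]
        _ = n' * (n * t) * n' * n := by group
        _ = n' * (t * n) * n' * n := by
            have : n * t = t * n := by
              calc n * t = (t * n * t) * t := by rw [h1]
                _ = t * n * (t * t) := by group
                _ = t * n := by rw [htt, mul_one]
            rw [this]
        _ = n' * t * (n * n') * n := by group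
        _ = n' * t * (n' * n) * n := by rw [hnn]
        _ = n' * (t * n') * (n * n) := by group
        _ = n' * (t * n') := by rw [hn2, mul_one]
        _ = n' * (n' * t) := by
            have : t * n' = n' * t := by
              calc t * n' = (t * n' * t) * (t⁻¹) := by group
                _ = n' * t := by rw [htn', B.inv c.ht]
            rw [this]
        _ = (n' * n') * t := by group
        _ = t := by rw [hn'2, one_mul]
    rw [e]
    exact (B.large t c.ht).z_mem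
  · intro h
    rw [hs1, hs2] at h
    have h1 : t * n * t = n := by
      have h1 := Com.inv_aux B c.toCom (x := q)
      rw [← hn, B.inv c.ht] at h1
      rw [h1]
      exact inv_eq_of_mul_eq_one_left hn2
    have e : t * n * (t * n') = n * n' := by
      calc t * n * (t * n') = (t * n * t) * n' := by group
        _ = n * n' := by rw [h1]
    rw [e] at h
    have hnQ : n ∈ Q p := by rw [hn]; exact Com.u_mem B c.toCom hq
    have hn'Q : n' ∈ Q p := by rw [hn']; exact Com.u_mem B c.toCom hq'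
    have h2 := hD1 _ (mul_mem hnQ hn'Q) h
    have h3 : n = n' := by
      rw [eq_inv_of_mul_eq_one_left h2]
      exact inv_eq_of_mul_eq_one_left hn'2
    apply hw'w
    rw [← hw', hw]
    rw [WCIrr.Com.T, ac_add, ac_add]
    congr 1
    apply Subtype.ext
    show t * q' * t⁻¹ * q'⁻¹ = t * q * t⁻¹ * q⁻¹
    rw [← hn, ← hn', h3]

end Cfsg.Agent.LargeExtra.NineUnitary.Hall
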