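import Cfsg.Agent.LargeExtra.NineUnitary.HallT
import Cfsg.Agent.LargeExtra.Nine.UCoord

/-!
# S1763, case I: `Disj` and `K4` from an `F₄`-structure on `V` (helper949)

`HasOm h`: an isometry `ω` of `V` with `ω² + ω + 1 = 0`, such that all U-lines are `{v, ω v, ω² v}` and each
element of `C(z)` is `ω`-linear or `ω`-antilinear.
-/

set_option autoImplicit false

namespace Cfsg.Agent.LargeExtra.NineUnitary.Hall

open Cfsg.Agent.Co2Type.Quad Cfsg.Agent.LargeExtra.WC Cfsg.Agent.LargeExtra.WCIrr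
open Cfsg.Agent.LargeExtra.Nine (IsU ActsAs)

variable {G : Type*} [Group G]

/-- the `F₄`-structure -/
def HasOm {Q : Subgroup G} {z : G} (h : Large Q z) : Prop :=
  ∃ ω : h.V ≃ₗ[ZMod 2] h.V, (∀ v, h.q (ω v) = h.q v) ∧ (∀ v, ω (ω v) + ω v + v = 0) ∧
    (∀ s u v, IsU h s u v → v = ω u ∨ v = ω (ω u)) ∧
    (∀ c : Subgroup.centralizer ({z} : Set G), (∀ v, h.act c (ω v) = ω (h.act c v)) ∨
      (∀ v, h.act c (ω v) = ω (ω (h.act c v))))

/-! ### linear algebra -/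

section lin

variable {V : Type*} [AddCommGroup V] [Module (ZMod 2) V]

theorem om_sq {ω : V ≃ₗ[ZMod 2] V} (hω : ∀ v, ω (ω v) + ω v + v = 0) (v : V) : ω (ω v) = ω v + v := by
  have h := hω v
  rw [add_assoc] at h
  exact eq_of_add h

theorem om_cube {ω : V ≃ₗ[ZMod 2] V} (hω : ∀ v, ω (ω v) + ω v + v = 0) (v : V) : ω (ω (ω v)) = v := by
  rw [om_sq hω v, map_add, om_sq hω v]
  have : ω v + v + ω v = v + (ω v + ω v) := by abel
  rw [this, vadd_self, add_zero]

theorem om_ne_zero {ω : V ≃ₗ[ZMod 2] V} {v : V} (hv : v ≠ 0) : ω v ≠ 0 := fun h =>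
  hv ((map_eq_zero_iff _ ω.injective).1 h)

theorem om_ne_self {ω : V ≃ₗ[ZMod 2] V} (hω : ∀ v, ω (ω v) + ω v + v = 0) {v : V} (hv : v ≠ 0) :
    v ≠ ω v := by
  intro h
  have h1 := om_sq hω v
  rw [← h, ← h, vadd_self] at h1
  exact hv h1

theorem sixteen [Finite V] {ω : V ≃ₗ[ZMod 2] V} (hω : ∀ v, ω (ω v) + ω v + v = 0)
    {W : Submodule (ZMod 2) V} (hW : ∀ w ∈ W, ω w ∈ W) {w₀ w₁ : V} (h0 : w₀ ∈ W) (h1 : w₁ ∈ W)
    (h00 : w₀ ≠ 0) (h10 : w₁ ≠ 0) (ha : w₁ ≠ w₀) (hb : w₁ ≠ ω w₀) (hc : w₁ ≠ w₀ + ω w₀) :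
    16 ≤ Nat.card W := by
  have h2 := om_sq hω
  have h3 := om_cube hω
  have key : ∀ a b c d : ZMod 2, a • w₀ + b • ω w₀ + (c • w₁ + d • ω w₁) = 0 →
      a = 0 ∧ b = 0 ∧ c = 0 ∧ d = 0 := by
    intro a b c d h
    have h4 : c • w₁ + d • ω w₁ = a • w₀ + b • ω w₀ := (eq_of_add h).symm
    have hL : ∀ a b : ZMod 2, w₁ ≠ a • w₀ + b • ω w₀ := by
      intro a b
      rcases zm_cases a with rfl | rfl <;> rcases zm_cases b with rfl | rfl
      · rw [zero_smul, zero_smul, add_zero]; exact h10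
      · rw [zero_smul, one_smul, zero_add]; exact hb
      · rw [zero_smul, one_smul, add_zero]; exact ha
      · rw [one_smul, one_smul]; exact hc
    have hωL : ∀ a b : ZMod 2, ω (a • w₀ + b • ω w₀) = b • w₀ + (a + b) • ω w₀ := by
      intro a b
      rw [map_add, map_smul, map_smul, h2, smul_add, add_smul]
      abel
    rcases zm_cases c with rfl | rfl <;> rcases zm_cases d with rfl | rfl
    · rw [zero_smul, zero_smul, add_zero] at h4
      rcases zm_cases a with rfl | rfl <;> rcases zm_cases b with rfl | rfl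
      · exact ⟨rfl, rfl, rfl, rfl⟩
      · exfalso
        rw [zero_smul, one_smul, zero_add] at h4
        exact om_ne_zero h00 h4.symm
      · exfalso
        rw [zero_smul, one_smul, add_zero] at h4
        exact h00 h4.symm
      · exfalso
        rw [one_smul, one_smul] at h4
        exact om_ne_self hω h00 (eq_of_add h4.symm)
    · exfalso
      rw [zero_smul, one_smul, zero_add] at h4
      have h5 := h3 w₁
      rw [h4, hωL, hωL] at h5
      exact hL _ _ h5.symm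
    · exfalso
      rw [zero_smul, one_smul, add_zero] at h4
      exact hL _ _ h4
    · exfalso
      rw [one_smul, one_smul, add_comm w₁, ← h2] at h4
      have h5 := h3 w₁
      rw [h4, hωL] at h5
      exact hL _ _ h5.symm
  let f : (ZMod 2 × ZMod 2) × (ZMod 2 × ZMod 2) → W := fun x =>
    ⟨x.1.1 • w₀ + x.1.2 • ω w₀ + (x.2.1 • w₁ + x.2.2 • ω w₁),
      W.add_mem (W.add_mem (W.smul_mem _ h0) (W.smul_mem _ (hW _ h0)))
        (W.add_mem (W.smul_mem _ h1) (W.smul_mem _ (hW _ h1)))⟩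
  have hf : Function.Injective f := by
    rintro ⟨⟨a, b⟩, ⟨c, d⟩⟩ ⟨⟨a', b'⟩, ⟨c', d'⟩⟩ hxy
    have h4 : a • w₀ + b • ω w₀ + (c • w₁ + d • ω w₁) = a' • w₀ + b' • ω w₀ + (c' • w₁ + d' • ω w₁) :=
      congrArg Subtype.val hxy
    obtain ⟨e1, e2, e3, e4⟩ := key (a + a') (b + b') (c + c') (d + d') (by
      have h5 : (a + a') • w₀ + (b + b') • ω w₀ + ((c + c') • w₁ + (d + d') • ω w₁) =
        (a • w₀ + b • ω w₀ + (c • w₁ + d • ω w₁)) + (a' • w₀ + b' • ω w₀ + (c' • w₁ + d' • ω w₁)) := by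
        simp only [add_smul]; abel
      rw [h5, h4, vadd_self])
    have e : ∀ x y : ZMod 2, x + y = 0 → x = y := by decide
    rw [e _ _ e1, e _ _ e2, e _ _ e3, e _ _ e4]
  have h4 := Nat.card_le_card_of_injective f hf
  simpa using h4

end lin

/-! ### `IsU` from lines -/

variable {P : Set G} {Q : G → Subgroup G} {p t : G}

theorem act_formula {V : Type*} [AddCommGroup V] [Module (ZMod 2) V] {S : QS V} {T : V ≃ₗ[ZMod 2] V}
    (hS : S.Sing T) {u v : V} (hu : u ∈ QS.W T) (hv : v ∈ QS.W T) (hu0 : u ≠ 0) (hv0 : v ≠ 0) (huv : u ≠ v)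
    (x : V) : T x = x + S.b x u • v + S.b x v • u := by
  have hsum : T x + x = S.b x u • v + S.b x v • u := by
    by_cases hx : x ∈ S.perp (QS.W T)
    · have h1 : S.b x u = 0 := by
        rw [S.b_comm]; exact (S.mem_perp.1 hx) u hu
      have h2 : S.b x v = 0 := by
        rw [S.b_comm]; exact (S.mem_perp.1 hx) v hv
      rw [h1, h2, zero_smul, zero_smul, add_zero, hS.fix_iff.2 hx, vadd_self]
    · have hmem : S.b x u • v + S.b x v • u ∈ QS.W T :=
        Submodule.add_mem _ (Submodule.smul_mem _ _ hv) (Submodule.smul_mem _ _ hu)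
      have hne : S.b x u • v + S.b x v • u ≠ 0 := by
        rcases zm_cases (S.b x u) with h1 | h1 <;> rcases zm_cases (S.b x v) with h2 | h2
        · exfalso
          apply hx
          rw [QS.mem_perp]
          intro w hw
          rw [S.b_comm]
          rcases QS.four hS.card hu hv hw hu0 hv0 huv with rfl | rfl | rfl | rfl
          · rw [map_zero]
          · exact h1
          · exact h2
          · rw [map_add, h1, h2, add_zero]
        · rw [h1, h2, zero_smul, one_smul, zero_add]; exact hu0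
        · rw [h1, h2, zero_smul, one_smul, add_zero]; exact hv0
        · rw [h1, h2, one_smul, one_smul]
          intro h3
          exact huv (eq_of_add h3).symm
      have hb : S.b (S.b x u • v + S.b x v • u) x = 0 := by
        rw [map_add, map_smul, map_smul, LinearMap.add_apply, LinearMap.smul_apply, LinearMap.smul_apply,
          S.b_comm v x, S.b_comm u x, smul_eq_mul, smul_eq_mul, mul_comm]
        have : ∀ a : ZMod 2, a + a = 0 := by decide
        exact this _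
      exact QS.eq_of_perp S hS.card (QS.f_mem_W T x) hmem (hS.f_ne hx) hne (hS.alt x) hb hx
  have h4 : T x = S.b x u • v + S.b x v • u + x := add_eq_iff.1 hsum
  rw [h4]; abel

theorem isU_of_line [Finite G] (B : Base P Q) (l : Line P Q p t) {u v : (B.large p l.good.hp).V}
    (hu : u ∈ QS.W (Com.T B l.good.toCom)) (hv : v ∈ QS.W (Com.T B l.good.toCom)) (hu0 : u ≠ 0)
    (hv0 : v ≠ 0) (huv : u ≠ v) : IsU (B.large p l.good.hp) t u v where
  conj := B.exists_conj p l.good.hp t l.good.ht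
  u0 := hu0
  v0 := hv0
  uv := huv
  qu := (l.sing B).q_W hu
  qv := (l.sing B).q_W hv
  b := (Com.T_inv B l.good.toCom).isotropic hu hv
  act := ⟨Subgroup.mem_centralizer_singleton_iff.2 l.good.com.symm, fun x =>
    act_formula (l.sing B) hu hv hu0 hv0 huv x⟩

/-- `ω` preserves the line of a point -/
theorem om_mem_W [Finite G] (B : Base P Q) (l : Line P Q p t)
    {ω : (B.large p l.good.hp).V ≃ₗ[ZMod 2] (B.large p l.good.hp).V} (hω : ∀ v, ω (ω v) + ω v + v = 0)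
    (hU : ∀ s u v, IsU (B.large p l.good.hp) s u v → v = ω u ∨ v = ω (ω u))
    {w : (B.large p l.good.hp).V} (hw : w ∈ QS.W (Com.T B l.good.toCom)) (hw0 : w ≠ 0) :
    ω w ∈ QS.W (Com.T B l.good.toCom) := by
  -- a second vector
  obtain ⟨v, hv, hv0, hvw⟩ : ∃ v ∈ QS.W (Com.T B l.good.toCom), v ≠ 0 ∧ v ≠ w := by
    obtain ⟨a, ha, b, hb, ha0, hb0, hab⟩ := exists_two_vec (N := QS.W (Com.T B l.good.toCom))
      (by have h1 : Nat.card (QS.W (Com.T B l.good.toCom)) = 4 := (l.sing B).card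
          omega)
    by_cases h : a = w
    · exact ⟨b, hb, hb0, fun h1 => hab (h.trans h1.symm)⟩
    · exact ⟨a, ha, ha0, h⟩
  rcases hU t w v (isU_of_line B l hw hv hw0 hv0 (Ne.symm hvw)) with h | h
  · rw [← h]; exact hv
  · rw [om_sq hω] at h
    have h1 : ω w = v + w := by rw [h, add_assoc, vadd_self, add_zero]
    rw [h1]
    exact Submodule.add_mem _ hv hw

theorem disj_of_om [Finite G] (B : Base P Q) (hp : p ∈ P) (hO : HasOm (B.large p hp)) : Disj P Q p := by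
  obtain ⟨ω, -, hω, hU, -⟩ := hO
  intro s s' l l' x hx x' hx' h1 h2 h3
  set w := (B.large p hp).pr ⟨s * x * s⁻¹ * x⁻¹, Com.u_mem B l.good.toCom hx⟩ with hwd
  have hw : w ∈ QS.W (Com.T B l.good.toCom) := by
    have e : Com.T B l.good.toCom ((B.large p hp).pr ⟨x, hx⟩) + (B.large p hp).pr ⟨x, hx⟩ = w :=
      ac_add _ _ _ _ _
    rw [← e]; exact QS.f_mem_W _ _
  have hw' : w ∈ QS.W (Com.T B l'.good.toCom) := by
    have e : Com.T B l'.good.toCom ((B.large p hp).pr ⟨x', hx'⟩) + (B.large p hp).pr ⟨x', hx'⟩ = w := by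
      have e1 : Com.T B l'.good.toCom ((B.large p hp).pr ⟨x', hx'⟩) + (B.large p hp).pr ⟨x', hx'⟩ =
        (B.large p hp).pr ⟨s' * x' * s'⁻¹ * x'⁻¹, Com.u_mem B l'.good.toCom hx'⟩ := ac_add _ _ _ _ _
      rw [e1, hwd, eq_comm, (B.large p hp).pr_eq_pr]
      exact h3
    rw [← e]; exact QS.f_mem_W _ _
  have hw0 : w ≠ 0 := by
    intro h
    rcases (B.large p hp).pr_eq_zero.1 h with h4 | h4
    · exact h1 h4
    · exact h2 h4
  have k1 := om_mem_W B l hω hU hw hw0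
  have k2 := om_mem_W B l' hω hU hw' hw0
  have hle : QS.W (Com.T B l.good.toCom) ≤ QS.W (Com.T B l'.good.toCom) := by
    intro v hv
    rcases QS.four (l.sing B).card hw k1 hv hw0 (om_ne_zero hw0) (om_ne_self hω hw0) with
      rfl | rfl | rfl | rfl
    · exact Submodule.zero_mem _
    · exact hw'
    · exact k2
    · exact Submodule.add_mem _ hw' k2
  exact Line.eq_of_W B l l' (Line.card_W_eq B l l' hle)

theorem k4_of_om [Finite G] (B : Base P Q) (hp : p ∈ P) (hV : Nat.card (B.large p hp).V = 256)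
    (hO : HasOm (B.large p hp)) : K4 P Q p := by
  intro t c
  set h := B.large p hp with hh
  obtain ⟨ω, hq, hω, -, hS⟩ := hO
  set T := Com.T B c with hT
  have hTi := Com.T_inv B c
  -- reduction
  have hred : (qs h).perp (QS.W T) ≤ QS.W T → ∀ x ∈ Q p, (t * x * t⁻¹ = x ∨ t * x * t⁻¹ = x * p) →
    ∃ y ∈ Q p, t * y * t⁻¹ * y⁻¹ = x ∨ t * y * t⁻¹ * y⁻¹ = x * p := by
    intro hle x hx hxt
    have h1 : T (h.pr ⟨x, hx⟩) = h.pr ⟨x, hx⟩ := by
      have e : T (h.pr ⟨x, hx⟩) = h.pr ⟨t * x * t⁻¹, h.conj_mem t c.com.symm x hx⟩ := ac_pr _ _ _ _ _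
      rw [e, h.pr_eq_pr]
      exact hxt
    obtain ⟨v, hv⟩ := hle (hTi.fix_iff.1 h1)
    obtain ⟨y, hy, rfl⟩ := pr_surj _ v
    have e : T (h.pr ⟨y, hy⟩) + h.pr ⟨y, hy⟩ = h.pr ⟨t * y * t⁻¹ * y⁻¹, Com.u_mem B c hy⟩ := ac_add _ _ _ _ _
    have h2 : h.pr ⟨t * y * t⁻¹ * y⁻¹, Com.u_mem B c hy⟩ = h.pr ⟨x, hx⟩ := e.symm.trans hv
    exact ⟨y, hy, h.pr_eq_pr.1 h2⟩
  have hsemi : (∀ v, T (ω v) = ω (T v)) ∨ (∀ v, T (ω v) = ω (ω (T v))) :=
    hS ⟨t, Subgroup.mem_centralizer_singleton_iff.2 c.com.symm⟩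
  rcases hsemi with hlin | hanti
  · have hWω : ∀ w ∈ QS.W T, ω w ∈ QS.W T := by
      rintro _ ⟨v, rfl⟩
      refine ⟨ω v, ?_⟩
      show T (ω v) + ω v = ω (T v + v)
      rw [hlin, map_add]
    obtain ⟨v0, hv0⟩ := Com.T_ne B c
    have hw0 : T v0 + v0 ≠ 0 := fun h => hv0 (eq_of_add h)
    have hw0m : T v0 + v0 ∈ QS.W T := QS.f_mem_W T v0
    obtain ⟨w₀, hw₀⟩ : ∃ w₀, w₀ = T v0 + v0 := ⟨_, rfl⟩
    rw [← hw₀] at hw0 hw0m
    by_cases hex : ∃ w₁ ∈ QS.W T, w₁ ≠ 0 ∧ w₁ ≠ w₀ ∧ w₁ ≠ ω w₀ ∧ w₁ ≠ w₀ + ω w₀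
    · right
      apply hred
      obtain ⟨w₁, a1, a2, a3, a4, a5⟩ := hex
      have h16 := sixteen hω hWω hw0m a1 hw0 a2 a3 a4 a5
      have h1 := (qs h).card_perp (QS.W T)
      rw [hV] at h1
      have h2 : Nat.card ((qs h).perp (QS.W T)) ≤ 16 := by
        by_contra h3
        push Not at h3
        have h4 := Nat.mul_le_mul h16 (Nat.succ_le_of_lt h3)
        omega
      have h3 : QS.W T = (qs h).perp (QS.W T) := by
        apply SetLike.coe_injective
        apply Set.eq_of_subset_of_ncard_le (ht := Set.toFinite _) hTi.W_le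
        have e1 : (QS.W T : Set h.V).ncard = Nat.card (QS.W T) := rfl
        have e2 : ((qs h).perp (QS.W T) : Set h.V).ncard = Nat.card ((qs h).perp (QS.W T)) := rfl
        rw [e1, e2]
        exact h2.trans h16
      exact h3.ge
    · left
      push Not at hex
      have hfour : ∀ w ∈ QS.W T, w = 0 ∨ w = w₀ ∨ w = ω w₀ ∨ w = w₀ + ω w₀ := by
        intro w hw
        by_cases b1 : w = 0
        · exact Or.inl b1
        by_cases b2 : w = w₀
        · exact Or.inr (Or.inl b2)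
        by_cases b3 : w = ω w₀
        · exact Or.inr (Or.inr (Or.inl b3))
        · exact Or.inr (Or.inr (Or.inr (hex w hw b1 b2 b3)))
      have hcard : Nat.card (QS.W T) = 4 := card_four hw0m (hWω _ hw0m) hw0 (om_ne_zero hw0)
        (om_ne_self hω hw0) hfour
      have hb0 : h.b w₀ (ω w₀) = 0 := hTi.isotropic hw0m (hWω _ hw0m)
      have hq2 : h.q (w₀ + ω w₀) = 0 := by
        rw [h.q_add', hb0, hq, add_zero]
        have : ∀ a : ZMod 2, a + a = 0 := by decide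
        exact this _
      have hq0 : h.q w₀ = 0 := by
        have e1 := hq (ω w₀)
        rw [om_sq hω, hq, add_comm] at e1
        rw [← e1]; exact hq2
      have hq1 : h.q (ω w₀) = 0 := by rw [hq]; exact hq0
      refine line_of_sing B c (by rw [← hh, hV]; norm_num) ⟨hTi, fun v => ?_, hcard⟩
      show h.q (T v + v) = 0
      rcases hfour _ (QS.f_mem_W T v) with e | e | e | e <;> rw [e]
      · exact h.q_zero
      · exact hq0
      · exact hq1
      · exact hq2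
  · right
    apply hred
    intro x hx
    have hTx := hTi.fix_iff.2 hx
    refine ⟨ω x, ?_⟩
    show T (ω x) + ω x = x
    rw [hanti, hTx, om_sq hω]
    have : ω x + x + ω x = x + (ω x + ω x) := by abel
    rw [this, vadd_self, add_zero]

/-! ### conjugation -/

theorem Disj.conj (B : Base P Q) (hp : p ∈ P) (h : Disj P Q p) (g : G) : Disj P Q (g * p * g⁻¹) := by
  intro s s' l l' x hx x' hx' h1 h2 h3
  have l0 := l.conj B g⁻¹
  have l0' := l'.conj B g⁻¹
  have e : g⁻¹ * (g * p * g⁻¹) * g⁻¹⁻¹ = p := by group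
  rw [e] at l0 l0'
  have hx0 : g⁻¹ * x * g⁻¹⁻¹ ∈ Q p := by
    have := B.Q_conj _ (B.conj_mem p hp g) g⁻¹ x hx
    rwa [e] at this
  have hx0' : g⁻¹ * x' * g⁻¹⁻¹ ∈ Q p := by
    have := B.Q_conj _ (B.conj_mem p hp g) g⁻¹ x' hx'
    rwa [e] at this
  have ec : ∀ s x : G, (g⁻¹ * s * g⁻¹⁻¹) * (g⁻¹ * x * g⁻¹⁻¹) * (g⁻¹ * s * g⁻¹⁻¹)⁻¹ * (g⁻¹ * x * g⁻¹⁻¹)⁻¹ =
      g⁻¹ * (s * x * s⁻¹ * x⁻¹) * g := by
    intro s x; group
  have h4 := h _ _ l0 l0' _ hx0 _ hx0' (by
    rw [ec]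
    intro h5
    apply h1
    calc s * x * s⁻¹ * x⁻¹ = g * (g⁻¹ * (s * x * s⁻¹ * x⁻¹) * g) * g⁻¹ := by group
      _ = 1 := by rw [h5]; group) (by
    rw [ec]
    intro h5
    apply h2
    calc s * x * s⁻¹ * x⁻¹ = g * (g⁻¹ * (s * x * s⁻¹ * x⁻¹) * g) * g⁻¹ := by group
      _ = g * p * g⁻¹ := by rw [h5]) (by
    rw [ec, ec]
    rcases h3 with h5 | h5
    · left; rw [h5]
    · right; rw [h5]; group)
  have h5 := B.Q_conj p hp g _ h4
  have e2 : g * (g⁻¹ * s * g⁻¹⁻¹ * (g⁻¹ * s' * g⁻¹⁻¹)) * g⁻¹ = s * s' := by group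
  rwa [e2] at h5

theorem K4.conj (B : Base P Q) (hp : p ∈ P) (h : K4 P Q p) (g : G) : K4 P Q (g * p * g⁻¹) := by
  intro t c
  have e : g⁻¹ * (g * p * g⁻¹) * g⁻¹⁻¹ = p := by group
  have c0 : Com P p (g⁻¹ * t * g⁻¹⁻¹) := by
    refine ⟨hp, B.conj_mem _ c.ht g⁻¹, ?_, ?_⟩
    · intro h1
      apply c.ne
      rw [h1]; group
    · have h1 := c.com
      calc p * (g⁻¹ * t * g⁻¹⁻¹) = g⁻¹ * (g * p * g⁻¹ * t) * g := by group
        _ = g⁻¹ * (t * (g * p * g⁻¹)) * g := by rw [h1]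
        _ = _ := by group
  rcases h _ c0 with h1 | h1
  · left
    have h2 := h1.conj B g
    have e1 : g * (g⁻¹ * t * g⁻¹⁻¹) * g⁻¹ = t := by group
    rwa [e1] at h2
  · right
    intro x hx hxt
    have hx0 : g⁻¹ * x * g⁻¹⁻¹ ∈ Q p := by
      have := B.Q_conj _ (B.conj_mem p hp g) g⁻¹ x hx
      rwa [e] at this
    obtain ⟨y, hy, hyx⟩ := h1 _ hx0 (by
      rcases hxt with h2 | h2
      · left
        calc g⁻¹ * t * g⁻¹⁻¹ * (g⁻¹ * x * g⁻¹⁻¹) * (g⁻¹ * t * g⁻¹⁻¹)⁻¹ = g⁻¹ * (t * x * t⁻¹) * g := by group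
          _ = g⁻¹ * x * g⁻¹⁻¹ := by rw [h2]; group
      · right
        calc g⁻¹ * t * g⁻¹⁻¹ * (g⁻¹ * x * g⁻¹⁻¹) * (g⁻¹ * t * g⁻¹⁻¹)⁻¹ = g⁻¹ * (t * x * t⁻¹) * g := by group
          _ = g⁻¹ * x * g⁻¹⁻¹ * p := by rw [h2]; group)
    refine ⟨g * y * g⁻¹, B.Q_conj p hp g y hy, ?_⟩
    have e3 : t * (g * y * g⁻¹) * t⁻¹ * (g * y * g⁻¹)⁻¹ =
        g * ((g⁻¹ * t * g⁻¹⁻¹) * y * (g⁻¹ * t * g⁻¹⁻¹)⁻¹ * y⁻¹) * g⁻¹ := by group
    rcases hyx with h2 | h2
    · left; rw [e3, h2]; group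
    · right; rw [e3, h2]; group

/-- **All commuting pairs of points are lines**, from the `F₄`-structure at one point. -/
theorem line_of_com_of_om [Finite G] (B : Base P Q) {z : G} (hz : z ∈ P)
    (hV : Nat.card (B.large z hz).V = 256) (hO : HasOm (B.large z hz)) (c : Com P p t) : Line P Q p t := by
  have h64 : ∀ p (hp : p ∈ P), 64 ≤ Nat.card (B.large p hp).V := by
    intro p hp
    rw [B.cardV_eq hp hz, hV]; norm_num
  refine line_of_com B h64 ?_ ?_ c
  · intro p hp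
    obtain ⟨g, rfl⟩ := B.exists_conj z hz p hp
    exact (disj_of_om B hz hO).conj B hz g
  · intro p hp
    obtain ⟨g, rfl⟩ := B.exists_conj z hz p hp
    exact (k4_of_om B hz hV hO).conj B hz g

end Cfsg.Agent.LargeExtra.NineUnitary.Hall
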