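import Cfsg.Agent.LargeExtra.NineUnitary.HallA

/-!
# Large extraspecial 2-subgroups, case I (`z` weakly closed in `Q`): all commuting pairs are lines (helper949)

* `K4 P Q p`: each point `t` commuting with `p` forms a line with `p` or satisfies `C_V(t) = [V, t]`.
* `false_of_triple`: no triples `(p, t, p t)` of points.
* `line_of_com`: `Disj` and `K4` at all points imply that all commuting pairs are lines.
-/

set_option autoImplicit false

namespace Cfsg.Agent.LargeExtra.NineUnitary.Hall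

open Cfsg.Agent.Co2Type.Quad Cfsg.Agent.LargeExtra.WC Cfsg.Agent.LargeExtra.WCIrr

variable {G : Type*} [Group G] {P : Set G} {Q : G → Subgroup G} {p t : G}

/-- each point commuting with `p` forms a line with `p` or satisfies `C_V(t) ≤ [V, t]` -/
def K4 (P : Set G) (Q : G → Subgroup G) (p : G) : Prop :=
  ∀ t, Com P p t → Line P Q p t ∨ ∀ x ∈ Q p, (t * x * t⁻¹ = x ∨ t * x * t⁻¹ = x * p) →
    ∃ y ∈ Q p, t * y * t⁻¹ * y⁻¹ = x ∨ t * y * t⁻¹ * y⁻¹ = x * p

theorem exists_two_vec {V : Type*} [AddCommGroup V] [Module (ZMod 2) V] {N : Submodule (ZMod 2) V}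
    (h : 2 < Nat.card N) : ∃ a ∈ N, ∃ b ∈ N, a ≠ 0 ∧ b ≠ 0 ∧ a ≠ b := by
  classical
  by_contra hcon
  push Not at hcon
  by_cases h0 : ∀ a ∈ N, a = 0
  · have : Subsingleton N := ⟨fun v w => Subtype.ext ((h0 v v.2).trans (h0 w w.2).symm)⟩
    rw [Nat.card_unique] at h
    omega
  push Not at h0
  obtain ⟨a, ha, ha0⟩ := h0
  have h1 : (N : Set V) ⊆ (({0, a} : Finset V) : Set V) := by
    intro x hx
    simp only [Finset.coe_insert, Finset.coe_singleton, Set.mem_insert_iff, Set.mem_singleton_iff]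
    by_cases h2 : x = 0
    · exact Or.inl h2
    · exact Or.inr (hcon a ha x hx ha0 h2).symm
  have h2 : Nat.card N = Set.ncard (N : Set V) := rfl
  have h3 := Set.ncard_le_ncard h1 (Finset.finite_toSet _)
  rw [Set.ncard_coe_finset] at h3
  have h4 : ({0, a} : Finset V).card ≤ 2 := Finset.card_le_two
  omega

theorem false_of_triple [Finite G] (B : Base P Q)
    (h64 : ∀ p (hp : p ∈ P), 64 ≤ Nat.card (B.large p hp).V)
    (hline : ∀ s, Good P t s → Line P Q t s) (hD : Disj P Q t) (c : Com P p t) (hpt : p * t ∈ P)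
    (hW : ∀ x ∈ Q p, (t * x * t⁻¹ = x ∨ t * x * t⁻¹ = x * p) →
      ∃ y ∈ Q p, t * y * t⁻¹ * y⁻¹ = x ∨ t * y * t⁻¹ * y⁻¹ = x * p) : False := by
  have hpp := B.sq c.hp
  have htt := B.sq c.ht
  have hlt := B.large p c.hp
  -- `D = 1`
  have hD1 : ∀ d ∈ Q p, d ∈ Q t → d = 1 := by
    intro d h1 h2
    have h3 : (B.large p c.hp).pr ⟨d, h1⟩ ∈ QS.W (Com.T B c) := by
      obtain ⟨y, hy, h4⟩ := hW d h1 (Or.inl (by rw [← Com.D_t B c h2]; group))
      have h5 : Com.T B c ((B.large p c.hp).pr ⟨y, hy⟩) + (B.large p c.hp).pr ⟨y, hy⟩ =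
          (B.large p c.hp).pr ⟨d, h1⟩ := by
        rw [WCIrr.Com.T, ac_add, (B.large p c.hp).pr_eq_pr]
        exact h4
      rw [← h5]
      exact QS.f_mem_W _ _
    have h4 := Com.U_inf_W B c hpt ((Com.mem_U B c).2 ⟨d, h1, h2, rfl⟩) h3
    rcases (B.large p c.hp).pr_eq_zero.1 h4 with h5 | h5
    · exact h5
    · exfalso
      have h6 : d = p := h5
      rw [h6] at h2
      exact Com.notMem B c.symm h2
  -- `t r ∈ P`
  have hr : ∀ r ∈ Q p, t * r = r * t → t * r ∈ P := by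
    intro r hr hrt
    have hrp : r * p = p * r := (B.large p c.hp).comm_z r hr
    obtain ⟨y, hy, h4⟩ := hW r hr (Or.inl (by rw [hrt]; group))
    have hyp : y * p = p * y := (B.large p c.hp).comm_z y hy
    have h5 := Com.conj_eq B c y
    rcases h4 with h4 | h4
    · rw [h4] at h5
      rw [← h5]
      exact B.conj_mem t c.ht y
    · rw [h4] at h5
      have h6 : y * (p * t) * y⁻¹ = t * r := by
        calc y * (p * t) * y⁻¹ = (y * p) * t * y⁻¹ := by group
          _ = p * (y * t * y⁻¹) := by rw [hyp]; group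
          _ = p * (t * (r * p)) := by rw [h5]
          _ = (p * t) * (r * p) := by group
          _ = t * (p * (r * p)) := by rw [c.com]; group
          _ = t * (p * (p * r)) := by rw [hrp]
          _ = t * ((p * p) * r) := by group
          _ = t * r := by rw [hpp, one_mul]
      rw [← h6]
      exact B.conj_mem _ hpt y
  have hgood : ∀ r ∈ Q p, t * r = r * t → r ≠ 1 → r ≠ p → Good P t (t * r) := by
    intro r h1 h2 h3 h4
    refine ⟨⟨c.ht, hr r h1 h2, fun h => h3 ?_, ?_⟩, fun h => h4 ?_⟩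
    · exact (mul_eq_left.1 h.symm)
    · rw [mul_assoc, h2]
    · rw [← mul_assoc, htt, one_mul] at h
      exact B.eq_of_mem p c.hp r h h1
  have hrr : ∀ r ∈ Q p, t * r = r * t → r * r = 1 := by
    intro r h1 h2
    have h3 := B.sq (hr r h1 h2)
    calc r * r = (t * t) * (r * r) := by rw [htt, one_mul]
      _ = t * (t * r) * r := by group
      _ = t * (r * t) * r := by rw [h2]
      _ = (t * r) * (t * r) := by group
      _ = 1 := h3
  -- two elements of `R`
  have hcard : 2 < Nat.card (Com.N B c) := by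
    have h1 := card_le_two_mul (N := Com.N B c) (M := (qs (B.large p c.hp)).perp (QS.W (Com.T B c)))
      (fun u hu v hv hu' hv' => Com.N_index B c hu hv hu' hv')
    have h2 := (qs (B.large p c.hp)).card_perp (QS.W (Com.T B c))
    have h3 : Nat.card (QS.W (Com.T B c)) ≤ Nat.card ((qs (B.large p c.hp)).perp (QS.W (Com.T B c))) :=
      Nat.card_le_card_of_injective (Submodule.inclusion (Com.T_inv B c).W_le)
        (Submodule.inclusion_injective _)
    have h4 := h64 p c.hp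
    by_contra h5
    push Not at h5
    have h6 : Nat.card ((qs (B.large p c.hp)).perp (QS.W (Com.T B c))) ≤ 4 := by omega
    have h7 := Nat.mul_le_mul (h3.trans h6) h6
    omega
  obtain ⟨v₁, hv₁, v₂, hv₂, h10, h20, h12⟩ := exists_two_vec hcard
  obtain ⟨r₁, hr₁, rfl⟩ := pr_surj _ v₁
  obtain ⟨r₂, hr₂, rfl⟩ := pr_surj _ v₂
  rw [Com.mem_N B c] at hv₁ hv₂
  have hv₃ : t * (r₁ * r₂) = (r₁ * r₂) * t := by
    rw [← mul_assoc, hv₁, mul_assoc, hv₂, ← mul_assoc]
  have hr₃ : r₁ * r₂ ∈ Q p := mul_mem hr₁ hr₂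
  have hne : ∀ r (h : r ∈ Q p), (B.large p c.hp).pr ⟨r, h⟩ ≠ 0 → r ≠ 1 ∧ r ≠ p := by
    intro r h h0
    constructor
    · rintro rfl; exact h0 ((B.large p c.hp).pr_eq_zero.2 (Or.inl rfl))
    · intro h1; exact h0 ((B.large p c.hp).pr_eq_zero.2 (Or.inr h1))
  have h30 : (B.large p c.hp).pr ⟨r₁ * r₂, hr₃⟩ ≠ 0 := by
    intro h
    apply h12
    have h1 : (B.large p c.hp).pr ⟨r₁ * r₂, hr₃⟩ =
      (B.large p c.hp).pr ⟨r₁, hr₁⟩ + (B.large p c.hp).pr ⟨r₂, hr₂⟩ := (B.large p c.hp).pr_mul ⟨r₁, hr₁⟩ ⟨r₂, hr₂⟩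
    rw [h1] at h
    exact eq_of_add h
  have l₁ := hline _ (hgood r₁ hr₁ hv₁ (hne _ hr₁ h10).1 (hne _ hr₁ h10).2)
  have l₂ := hline _ (hgood r₂ hr₂ hv₂ (hne _ hr₂ h20).1 (hne _ hr₂ h20).2)
  have l₃ := hline _ (hgood _ hr₃ hv₃ (hne _ hr₃ h30).1 (hne _ hr₃ h30).2)
  have e2 : t * r₁ * (t * r₂) = r₁ * r₂ := by
    calc t * r₁ * (t * r₂) = t * (r₁ * t) * r₂ := by group
      _ = t * (t * r₁) * r₂ := by rw [hv₁]
      _ = (t * t) * (r₁ * r₂) := by group
      _ = r₁ * r₂ := by rw [htt, one_mul]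
  refine no_three B hD l₁ l₂ l₃ ?_ ?_
  · have e3 : t * r₁ * (t * r₂) * (t * (r₁ * r₂)) = t := by
      rw [e2, hv₃, ← mul_assoc, hrr _ hr₃ hv₃, one_mul]
    rw [e3]
    exact (B.large t c.ht).z_mem
  · rw [e2]
    intro h
    exact (hne _ hr₃ h30).1 (hD1 _ hr₃ h)

/-- **All commuting pairs of points are lines.** -/
theorem line_of_com [Finite G] (B : Base P Q)
    (h64 : ∀ p (hp : p ∈ P), 64 ≤ Nat.card (B.large p hp).V)
    (hD : ∀ p ∈ P, Disj P Q p) (hk : ∀ p ∈ P, K4 P Q p) (c : Com P p t) : Line P Q p t := by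
  have hgood : ∀ {p t : G}, Good P p t → Line P Q p t := by
    intro p t c
    rcases c.dichotomy B (h64 p c.hp) with hU | hF
    · exact line_of_typeU B c hU
    · exact (TypeF.false_of_disj B h64 (hD t c.ht) c hF).elim
  by_cases hpt : p * t ∈ P
  · rcases hk p c.hp t c with h | h
    · exact h
    · exact (false_of_triple B h64 (fun s h => hgood h) (hD t c.ht) c hpt h).elim
  · exact hgood ⟨c, hpt⟩

end Cfsg.Agent.LargeExtra.NineUnitary.Hall
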